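import Mathlib

/-!
Injectivity of `L ⊗ Ω_{K/R} → Ω_{L/R}` from extension of derivations.
-/

set_option autoImplicit false

universe u v w

open TensorProduct

namespace Groth.Agent.PBasisLib

variable {R : Type u} {K : Type v} {L : Type w} [CommRing R] [CommRing K] [Field L]
variable [Algebra R K] [Algebra K L] [Algebra R L] [IsScalarTower R K L]

theorem injective_mapBaseChange_of_extends
    (h : ∀ D : Derivation R K L, ∃ D' : Derivation R L L, ∀ a : K, D' (algebraMap K L a) = D a) :
    Function.Injective (KaehlerDifferential.mapBaseChange R K L) := by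
  refine (injective_iff_map_eq_zero _).mpr fun z hz => ?_
  by_contra hne
  obtain ⟨φ, hφ⟩ := Module.Projective.exists_dual_ne_zero L hne
  let g : Ω[K⁄R] →ₗ[K] L := (φ.restrictScalars K).comp (TensorProduct.mk K L (Ω[K⁄R]) 1)
  obtain ⟨D', hD'⟩ := h (g.compDer (KaehlerDifferential.D R K))
  have key : D'.liftKaehlerDifferential.comp (KaehlerDifferential.mapBaseChange R K L) = φ := by
    apply TensorProduct.AlgebraTensorModule.ext
    intro l ω
    have hω : D'.liftKaehlerDifferential.restrictScalars K ∘ₗ KaehlerDifferential.map R R K L = g := by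
      apply Derivation.liftKaehlerDifferential_unique
      ext a
      simpa [g] using hD' a
    have h1 := LinearMap.congr_fun hω ω
    show D'.liftKaehlerDifferential (KaehlerDifferential.mapBaseChange R K L (l ⊗ₜ ω)) = φ (l ⊗ₜ ω)
    rw [KaehlerDifferential.mapBaseChange_tmul, map_smul,
      show (l ⊗ₜ[K] ω : L ⊗[K] Ω[K⁄R]) = l • ((1 : L) ⊗ₜ[K] ω) by rw [TensorProduct.smul_tmul', smul_eq_mul, mul_one],
      map_smul]
    exact congrArg (l • ·) h1
  apply hφ
  rw [← key, LinearMap.comp_apply, hz, map_zero]

end Groth.Agent.PBasisLib
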