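import Groth.Agent.PBasisLib.Inter
import Groth.Agent.PBasisLib.Extend
import Mathlib.RingTheory.Kaehler.Basic

/-! Admissible subfields for a finite imperfection module. -/

universe u

open EGA41 IntermediateField TensorProduct

namespace Groth.Agent.PBasisLib

variable (p : ℕ) [hp : Fact p.Prime] {k₀ : Type u} {K : Type u} [Field k₀] [Field K] [Algebra k₀ K] [CharP K p]
  {ι : Type u} [Preorder ι] [IsDirected ι (· ≤ ·)] [Nonempty ι] (k : ι → IntermediateField k₀ K)
  (L : Type u) [Field L] [Algebra K L]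

/-- The base change to `L` of `Ω[K⁄k₀] → Ω[K⁄k i]`. -/
noncomputable def toRel (i : ι) : L ⊗[K] Ω[K⁄k₀] →ₗ[L] L ⊗[K] Ω[K⁄k i] :=
  ((KaehlerDifferential.map k₀ (k i) K K).restrictScalars K).baseChange L

omit hp [CharP K p] [Preorder ι] [IsDirected ι (· ≤ ·)] [Nonempty ι] in
theorem toRel_tmul (i : ι) (l : L) (ω : Ω[K⁄k₀]) :
    toRel k L i (l ⊗ₜ ω) = l ⊗ₜ KaehlerDifferential.map k₀ (k i) K K ω :=
  LinearMap.baseChange_tmul _ _ _

/-- A finite-dimensional subspace injects into some `L ⊗ Ω[K⁄k i]`. -/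
theorem exists_injOn (hk : Antitone k) (h : (⨅ i, k i ⊔ Fp p k₀ (∅ : Set K)) = Fp p k₀ ∅)
    (V : Submodule L (L ⊗[K] Ω[K⁄k₀])) [Module.Finite L V] :
    ∃ i, ∀ z ∈ V, toRel k L i z = 0 → z = 0 := by
  classical
  obtain ⟨B, -, -, hB⟩ := exists_isPBasis p k₀ (Set.empty_subset (Set.univ : Set K))
    (fun t ht => absurd ht (Set.notMem_empty t))
    (eq_top_iff.mpr fun y _ => subset_Fp p k₀ _ (Set.mem_univ y))
  obtain ⟨b, hb⟩ := exists_basis_D hB
  let bL := Algebra.TensorProduct.basis L b
  obtain ⟨t, ht⟩ := (Module.Finite.iff_fg.mp ‹_› : V.FG)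
  let s : Finset B := t.sup fun z => (bL.repr z).support
  have hfree : Free p k₀ (fun a : s => ((a : B) : K)) := by
    rw [free_iff_linearIndependent_D]
    exact (linearIndependent_D hB).comp (fun a : s => (a : B)) Subtype.val_injective
  obtain ⟨i, hi⟩ := exists_free p k hk h hfree
  rw [free_iff_linearIndependent_D] at hi
  let f : (s → K) →ₗ[K] Ω[K⁄k i] :=
    Fintype.linearCombination K fun a : s => KaehlerDifferential.D (k i) K ((a : B) : K)
  have hf : Function.Injective f := by
    rw [← LinearMap.ker_eq_bot, LinearMap.ker_eq_bot']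
    intro c hc
    exact funext (Fintype.linearIndependent_iff.mp hi c (by rwa [Fintype.linearCombination_apply] at hc))
  have hfL : Function.Injective (f.lTensor L) := Module.Flat.lTensor_preserves_injective_linearMap f hf
  let g : (s → K) →ₗ[K] Ω[K⁄k₀] :=
    Fintype.linearCombination K fun a : s => KaehlerDifferential.D k₀ K ((a : B) : K)
  have hfg : ∀ w, toRel k L i (g.baseChange L w) = f.baseChange L w := fun w => by
    induction w with
    | zero => simp
    | add x y hx hy => simp only [map_add, hx, hy]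
    | tmul l c =>
      rw [LinearMap.baseChange_tmul, LinearMap.baseChange_tmul, toRel_tmul]
      congr 1
      simp only [g, f, Fintype.linearCombination_apply, map_sum, map_smul, KaehlerDifferential.map_D]
      rfl
  refine ⟨i, fun z hz hz0 => ?_⟩
  have hle : V ≤ LinearMap.range (g.baseChange L) := by
    rw [← ht, Submodule.span_le]
    intro x hx
    rw [SetLike.mem_coe, ← bL.linearCombination_repr x, Finsupp.linearCombination_apply]
    refine Submodule.sum_mem _ fun a ha => Submodule.smul_mem _ _ ?_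
    have has : a ∈ s := Finset.mem_sup.mpr ⟨x, hx, ha⟩
    refine ⟨(1 : L) ⊗ₜ Pi.single (⟨a, has⟩ : s) 1, ?_⟩
    rw [LinearMap.baseChange_tmul, Algebra.TensorProduct.basis_apply]
    congr 1
    rw [Fintype.linearCombination_apply_single, one_smul, hb]
  obtain ⟨w, rfl⟩ := hle hz
  have hw : f.lTensor L w = 0 := by
    rw [← LinearMap.baseChange_eq_ltensor, ← hfg, hz0]
  rw [hfL (hw.trans (map_zero _).symm), map_zero]

variable [Algebra k₀ L] [IsScalarTower k₀ K L]

/-- The span of the `1 ⊗ D c`, `c ∈ k i`. -/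
noncomputable def relSpan (i : ι) : Submodule L (L ⊗[K] Ω[K⁄k₀]) :=
  Submodule.span L (Set.range fun c : k i => (1 : L) ⊗ₜ[K] KaehlerDifferential.D k₀ K (c : K))

omit hp [CharP K p] [Preorder ι] [IsDirected ι (· ≤ ·)] [Nonempty ι] [Algebra k₀ L] [IsScalarTower k₀ K L] in
theorem toRel_eq_zero_of_mem (i : ι) {z : L ⊗[K] Ω[K⁄k₀]} (hz : z ∈ relSpan k L i) : toRel k L i z = 0 := by
  refine (Submodule.span_le (p := LinearMap.ker (toRel k L i))).mpr ?_ hz
  rintro _ ⟨c, rfl⟩
  show toRel k L i _ = 0
  rw [toRel_tmul, KaehlerDifferential.map_D]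
  have : KaehlerDifferential.D (k i) K (algebraMap K K (c : K)) = 0 :=
    Derivation.map_algebraMap (KaehlerDifferential.D (k i) K) c
  rw [this, TensorProduct.tmul_zero]

omit hp [CharP K p] [IsDirected ι (· ≤ ·)] [Nonempty ι] [Algebra k₀ L] [IsScalarTower k₀ K L] in
theorem relSpan_antitone (hk : Antitone k) : Antitone (relSpan k L) := fun i j hij => by
  rw [relSpan, Submodule.span_le]
  rintro _ ⟨c, rfl⟩
  exact Submodule.subset_span ⟨⟨c, hk hij c.2⟩, rfl⟩

/-- The intersection property passes to extensions with finite imperfection module. -/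
theorem iInf_eq_of_finite_imperfection [CharP L p] (hk : Antitone k)
    (h : (⨅ i, k i ⊔ Fp p k₀ (∅ : Set K)) = Fp p k₀ ∅) [Module.Finite L (EGA41.imperfection k₀ K L)] :
    (⨅ i, (k i).map (IsScalarTower.toAlgHom k₀ K L) ⊔ Fp p k₀ (∅ : Set L)) = Fp p k₀ ∅ := by
  classical
  let k' : ι → IntermediateField k₀ L := fun i => (k i).map (IsScalarTower.toAlgHom k₀ K L)
  refine (iInf_eq_iff_separating p k' (fun i j hij => IntermediateField.map_mono _ (hk hij))).mpr fun η hη => ?_
  set m := KaehlerDifferential.mapBaseChange k₀ K L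
  have hspan : ∀ i, η ∈ (relSpan k L i).map m := fun i => by
    obtain ⟨w, hw⟩ := (KaehlerDifferential.exact_mapBaseChange_map k₀ (k' i) L η).mp (hη i)
    rw [← hw]
    clear hw
    induction w with
    | zero => simp
    | add x y hx hy => rw [map_add]; exact Submodule.add_mem _ hx hy
    | tmul l ω =>
      rw [KaehlerDifferential.mapBaseChange_tmul]
      refine Submodule.smul_mem _ l ?_
      have hω : ω ∈ Submodule.span (k' i) (Set.range (KaehlerDifferential.D k₀ (k' i))) := by
        rw [KaehlerDifferential.span_range_derivation]; trivial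
      induction hω using Submodule.span_induction with
      | mem x hx =>
        obtain ⟨⟨_, c, hc, rfl⟩, rfl⟩ := hx
        rw [KaehlerDifferential.map_D]
        exact ⟨(1 : L) ⊗ₜ KaehlerDifferential.D k₀ K c, Submodule.subset_span ⟨⟨c, hc⟩, rfl⟩, by
          rw [KaehlerDifferential.mapBaseChange_tmul, one_smul, KaehlerDifferential.map_D]; rfl⟩
      | zero => simp
      | add x y _ _ hx hy => rw [map_add]; exact Submodule.add_mem _ hx hy
      | smul r x _ hx =>
        rw [map_smul, ← algebraMap_smul L r]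
        exact Submodule.smul_mem _ _ hx
  obtain ⟨z, -, hz⟩ := hspan (Classical.arbitrary ι)
  set U := EGA41.imperfection k₀ K L with hU
  haveI : Module.Finite L ↥(U ⊔ Submodule.span L {z}) := inferInstance
  obtain ⟨i, hi⟩ := exists_injOn p k L hk h (U ⊔ Submodule.span L {z})
  have : z ∈ U ⊔ relSpan k L i := by
    obtain ⟨n, hn, hnη⟩ := hspan i
    have hzn : z - n ∈ U := by
      show m (z - n) = 0
      rw [map_sub, hz, hnη, sub_self]
    exact Submodule.mem_sup.mpr ⟨z - n, hzn, n, hn, by abel⟩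
  obtain ⟨v, hv, n, hn, hvn⟩ := Submodule.mem_sup.mp this
  have hnV : n ∈ U ⊔ Submodule.span L {z} := by
    rw [show n = z - v by rw [← hvn]; abel]
    exact Submodule.sub_mem _ (Submodule.mem_sup_right (Submodule.mem_span_singleton_self z)) (Submodule.mem_sup_left hv)
  rw [hi n hnV (toRel_eq_zero_of_mem k L i hn), add_zero] at hvn
  rw [← hz, ← hvn]
  exact hv

/-- Some `k i` is admissible for a finite imperfection module. -/
theorem exists_admissible (hk : Antitone k) (h : (⨅ i, k i ⊔ Fp p k₀ (∅ : Set K)) = Fp p k₀ ∅)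
    [Module.Finite L (EGA41.imperfection k₀ K L)] :
    ∃ i, ∀ ω ∈ EGA41.imperfection k₀ K L,
      ((KaehlerDifferential.map k₀ (k i) K K).restrictScalars K).baseChange L ω = 0 → ω = 0 :=
  exists_injOn p k L hk h (EGA41.imperfection k₀ K L)

omit hp [CharP K p] [Preorder ι] [IsDirected ι (· ≤ ·)] [Nonempty ι] in
/-- A derivation killing `y` extends to an extension generated by a `p`th root of `y`. -/
theorem exists_derivation_root {L : Type u} [Field L] [Algebra K L] [Algebra k₀ L] [IsScalarTower k₀ K L]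
    (x : L) {y : K} (hx : x ^ p = algebraMap K L y)
    (hlift : ∀ (E : Type u) [CommRing E] (ψ : K →+* E) (e : E), e ^ p = ψ y →
      ∃ χ : L →+* E, (∀ a, χ (algebraMap K L a) = ψ a) ∧ χ x = e)
    (hext : ∀ χ : L →+* L, (∀ a, χ (algebraMap K L a) = algebraMap K L a) → χ x = x → χ = RingHom.id L)
    (D : Derivation k₀ K L) (hDy : D y = 0) :
    ∃ D' : Derivation k₀ L L, ∀ a, D' (algebraMap K L a) = D a := by
  let ψ : K →+* TrivSqZeroExt L L :=
    { toFun := fun a => TrivSqZeroExt.inl (algebraMap K L a) + TrivSqZeroExt.inr (D a)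
      map_one' := by refine TrivSqZeroExt.ext ?_ ?_ <;> simp
      map_mul' := fun a b => by
        refine TrivSqZeroExt.ext ?_ ?_
        · rw [TrivSqZeroExt.fst_mul, TrivSqZeroExt.fst_add, TrivSqZeroExt.fst_add, TrivSqZeroExt.fst_add]
          simp only [TrivSqZeroExt.fst_inl, TrivSqZeroExt.fst_inr, add_zero, map_mul]
        · rw [TrivSqZeroExt.snd_mul, TrivSqZeroExt.snd_add, TrivSqZeroExt.snd_add, TrivSqZeroExt.snd_add,
            TrivSqZeroExt.fst_add, TrivSqZeroExt.fst_add]
          simp only [TrivSqZeroExt.fst_inl, TrivSqZeroExt.fst_inr, TrivSqZeroExt.snd_inl, TrivSqZeroExt.snd_inr,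
            add_zero, zero_add, Derivation.leibniz, op_smul_eq_smul, algebraMap_smul]
      map_zero' := by refine TrivSqZeroExt.ext ?_ ?_ <;> simp
      map_add' := fun a b => by refine TrivSqZeroExt.ext ?_ ?_ <;> simp [add_comm, add_left_comm] }
  have hψfst : ∀ a, (ψ a).fst = algebraMap K L a := fun a => by
    show (TrivSqZeroExt.inl (algebraMap K L a) + TrivSqZeroExt.inr (D a)).fst = _
    rw [TrivSqZeroExt.fst_add, TrivSqZeroExt.fst_inl, TrivSqZeroExt.fst_inr, add_zero]
  have hψsnd : ∀ a, (ψ a).snd = D a := fun a => by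
    show (TrivSqZeroExt.inl (algebraMap K L a) + TrivSqZeroExt.inr (D a)).snd = _
    rw [TrivSqZeroExt.snd_add, TrivSqZeroExt.snd_inl, TrivSqZeroExt.snd_inr, zero_add]
  obtain ⟨χ, hχK, hχx⟩ := hlift _ ψ (TrivSqZeroExt.inl x) (by
    rw [TrivSqZeroExt.inl_pow]
    refine TrivSqZeroExt.ext ?_ ?_
    · rw [TrivSqZeroExt.fst_inl, hψfst, hx]
    · rw [TrivSqZeroExt.snd_inl, hψsnd, hDy])
  have hfst : ∀ z : L, (χ z).fst = z := fun z =>
    RingHom.congr_fun (hext ((TrivSqZeroExt.fstHom L L L).toRingHom.comp χ)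
      (fun a => by show (χ (algebraMap K L a)).fst = _; rw [hχK, hψfst])
      (by show (χ x).fst = x; rw [hχx, TrivSqZeroExt.fst_inl])) z
  let dlin : L →ₗ[k₀] L :=
    { toFun := fun z => (χ z).snd
      map_add' := fun z z' => by rw [map_add, TrivSqZeroExt.snd_add]
      map_smul' := fun c z => by
        rw [Algebra.smul_def, map_mul, IsScalarTower.algebraMap_apply k₀ K L, hχK, TrivSqZeroExt.snd_mul,
          hfst, hψsnd, hψfst, Derivation.map_algebraMap, smul_zero, add_zero, RingHom.id_apply,
          ← IsScalarTower.algebraMap_apply, smul_eq_mul, ← Algebra.smul_def] }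
  refine ⟨Derivation.mk' dlin (fun z z' => by
    show (χ (z * z')).snd = z • (χ z').snd + z' • (χ z).snd
    rw [map_mul, TrivSqZeroExt.snd_mul, hfst, hfst, op_smul_eq_smul]), fun a => ?_⟩
  show (χ (algebraMap K L a)).snd = D a
  rw [hχK, hψsnd]

omit [Preorder ι] [IsDirected ι (· ≤ ·)] [Nonempty ι] in
/-- The test extension by a `p`th root. -/
theorem exists_root_extension {y : K} (hy : ∀ b : K, b ^ p ≠ y) :
    ∃ (L : Type u) (_ : Field L) (_ : Algebra K L) (_ : Algebra k₀ L) (_ : IsScalarTower k₀ K L),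
      Module.Finite L (EGA41.imperfection k₀ K L) ∧
        (1 : L) ⊗ₜ[K] KaehlerDifferential.D k₀ K y ∈ EGA41.imperfection k₀ K L := by
  classical
  let f : Polynomial K := Polynomial.X ^ p - Polynomial.C y
  haveI : Fact (Irreducible f) := ⟨X_pow_sub_C_irreducible_of_prime hp.out hy⟩
  let L := AdjoinRoot f
  haveI : CharP L p := charP_of_injective_algebraMap (algebraMap K L).injective p
  have hroot : (AdjoinRoot.root f : L) ^ p = algebraMap K L y := by
    have := AdjoinRoot.eval₂_root f
    rwa [Polynomial.eval₂_sub, Polynomial.eval₂_X_pow, Polynomial.eval₂_C, sub_eq_zero] at this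
  refine ⟨L, inferInstance, inferInstance, inferInstance, inferInstance, ?_, ?_⟩
  · suffices hle : EGA41.imperfection k₀ K L ≤ Submodule.span L {(1 : L) ⊗ₜ[K] KaehlerDifferential.D k₀ K y} from
      Submodule.finiteDimensional_of_le hle
    intro z hz
    by_contra hne
    obtain ⟨φ, hφz, hφy⟩ := Submodule.exists_dual_map_eq_bot_of_notMem hne inferInstance
    let g : Ω[K⁄k₀] →ₗ[K] L := (φ.restrictScalars K).comp (TensorProduct.mk K L (Ω[K⁄k₀]) 1)
    let D := g.compDer (KaehlerDifferential.D k₀ K)
    have hDy : D y = 0 := (Submodule.mem_bot L).mp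
      (hφy ▸ Submodule.mem_map_of_mem (Submodule.mem_span_singleton_self _) :
        φ ((1 : L) ⊗ₜ[K] KaehlerDifferential.D k₀ K y) ∈ (⊥ : Submodule L L))
    obtain ⟨D', hD'⟩ := exists_derivation_root p (k₀ := k₀) (L := L) (AdjoinRoot.root f) (y := y) hroot
      (fun E _ ψ e he => ⟨AdjoinRoot.lift ψ e (by
        rw [Polynomial.eval₂_sub, Polynomial.eval₂_X_pow, Polynomial.eval₂_C, he, sub_self]),
        fun a => AdjoinRoot.lift_of _, AdjoinRoot.lift_root _⟩)
      (fun χ hχ hroot' => RingHom.ext fun x => by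
        induction x using AdjoinRoot.induction_on with
        | _ q =>
          induction q using Polynomial.induction_on' with
          | add q r hq hr => simp only [map_add, hq, hr]
          | monomial n a =>
            rw [← Polynomial.C_mul_X_pow_eq_monomial, map_mul, map_pow, AdjoinRoot.mk_C, AdjoinRoot.mk_X,
              map_mul, map_mul, map_pow, map_pow, hroot']
            rw [show AdjoinRoot.of f a = algebraMap K L a from rfl, hχ, RingHom.id_apply, RingHom.id_apply]) D hDy
    have key : D'.liftKaehlerDifferential.comp (KaehlerDifferential.mapBaseChange k₀ K L) = φ := by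
      apply TensorProduct.AlgebraTensorModule.ext
      intro l ω
      have hω : D'.liftKaehlerDifferential.restrictScalars K ∘ₗ KaehlerDifferential.map k₀ k₀ K L = g := by
        apply Derivation.liftKaehlerDifferential_unique
        refine Derivation.ext fun a => ?_
        show D'.liftKaehlerDifferential (KaehlerDifferential.map k₀ k₀ K L (KaehlerDifferential.D k₀ K a)) = D a
        rw [KaehlerDifferential.map_D, Derivation.liftKaehlerDifferential_comp_D]
        exact hD' a
      have h1 := LinearMap.congr_fun hω ω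
      show D'.liftKaehlerDifferential (KaehlerDifferential.mapBaseChange k₀ K L (l ⊗ₜ ω)) = φ (l ⊗ₜ ω)
      rw [KaehlerDifferential.mapBaseChange_tmul, map_smul,
        show (l ⊗ₜ[K] ω : L ⊗[K] Ω[K⁄k₀]) = l • ((1 : L) ⊗ₜ[K] ω) by rw [TensorProduct.smul_tmul', smul_eq_mul, mul_one],
        map_smul]
      exact congrArg (l • ·) h1
    apply hφz
    rw [← key, LinearMap.comp_apply, show KaehlerDifferential.mapBaseChange k₀ K L z = 0 from hz, map_zero]
  · show KaehlerDifferential.mapBaseChange k₀ K L _ = 0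
    rw [KaehlerDifferential.mapBaseChange_tmul, one_smul, KaehlerDifferential.map_D, ← hroot]
    exact derivation_pow_eq_zero (p := p) (KaehlerDifferential.D k₀ L) _

omit [IsDirected ι (· ≤ ·)] [Nonempty ι] in
/-- Converse. -/
theorem iInf_eq_of_forall_admissible
    (h : ∀ (L : Type u) [Field L] [Algebra K L] [Algebra k₀ L] [IsScalarTower k₀ K L],
      Module.Finite L (EGA41.imperfection k₀ K L) →
        ∃ i, ∀ ω ∈ EGA41.imperfection k₀ K L,
          ((KaehlerDifferential.map k₀ (k i) K K).restrictScalars K).baseChange L ω = 0 → ω = 0) :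
    (⨅ i, k i ⊔ Fp p k₀ (∅ : Set K)) = Fp p k₀ ∅ := by
  classical
  refine le_antisymm (fun y hy => ?_) (le_iInf fun i => le_sup_right)
  by_contra hy0
  obtain ⟨L, _, _, _, _, hfin, hmem⟩ := exists_root_extension p (k₀ := k₀) (y := y)
    (fun b hb => hy0 (hb ▸ pow_mem_Fp p k₀ ∅ b))
  obtain ⟨i, hi⟩ := h L hfin
  have h0 : KaehlerDifferential.D (k i) K y = 0 := by
    have := derivation_mem_span p (k i) (KaehlerDifferential.D (k i) K) (T := (∅ : Set K))
      ((mem_Fp_base_iff p k i ∅ y).mpr (mem_iInf'.mp hy i))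
    simpa using this
  have h1 : (1 : L) ⊗ₜ[K] KaehlerDifferential.D k₀ K y = 0 := by
    refine hi _ hmem ?_
    rw [LinearMap.baseChange_tmul, LinearMap.restrictScalars_apply, KaehlerDifferential.map_D]
    show (1 : L) ⊗ₜ[K] KaehlerDifferential.D (k i) K y = 0
    rw [h0, TensorProduct.tmul_zero]
  have hfree : Free p k₀ (fun _ : PUnit.{u + 1} => y) := fun a hmem => hy0 (by
    refine Fp_mono p k₀ ?_ hmem
    rintro _ ⟨b, hb, -⟩
    exact absurd (Subsingleton.elim b a) hb)
  rw [free_iff_linearIndependent_D] at hfree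
  refine hfree.ne_zero PUnit.unit ?_
  exact Module.FaithfullyFlat.tensorProduct_mk_injective (A := K) (B := L) (Ω[K⁄k₀])
    (h1.trans (TensorProduct.tmul_zero _ _).symm)

end Groth.Agent.PBasisLib
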