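import Mathlib

/-!
A radicial unramified algebra of finite type is a quotient of its base.
-/

set_option autoImplicit false
set_option linter.style.haveILetI false

universe u v

open TensorProduct

namespace Groth.Agent.PBasisLib

theorem surjective_of_subsingleton_kaehler (p : ℕ) [hp : Fact p.Prime] {A : Type u} {B : Type v}
    [CommRing A] [CommRing B] [Algebra A B] [CharP B p] [Algebra.FiniteType A B] (s : ℕ)
    (hpow : ∀ b : B, b ^ p ^ s ∈ Set.range (algebraMap A B)) [Subsingleton (Ω[B⁄A])] :
    Function.Surjective (algebraMap A B) := by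
  haveI : CharP (B ⊗[A] B) p := by
    refine charP_of_injective_algebraMap (R := B) (fun a b hab => ?_) p
    simpa using congrArg (Algebra.TensorProduct.lmul' A (S := B)) hab
  haveI : Algebra.IsIntegral A B := ⟨fun b => by
    obtain ⟨a, ha⟩ := hpow b
    exact IsIntegral.of_pow (pow_pos hp.out.pos s) (ha ▸ isIntegral_algebraMap)⟩
  haveI : Module.Finite A B := Algebra.IsIntegral.finite
  set I := KaehlerDifferential.ideal A B with hI
  have hle : I ≤ nilradical (B ⊗[A] B) := by
    rw [hI, ← KaehlerDifferential.span_range_eq_ideal, Ideal.span_le]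
    rintro _ ⟨b, rfl⟩
    rw [SetLike.mem_coe, mem_nilradical]
    refine ⟨p ^ s, ?_⟩
    show (1 ⊗ₜ[A] b - b ⊗ₜ[A] 1) ^ p ^ s = 0
    obtain ⟨a, ha⟩ := hpow b
    rw [sub_pow_char_pow, Algebra.TensorProduct.tmul_pow, Algebra.TensorProduct.tmul_pow,
      one_pow, ← ha, Algebra.algebraMap_eq_smul_one, TensorProduct.tmul_smul, TensorProduct.smul_tmul',
      sub_self]
  have hfg : I.FG := KaehlerDifferential.ideal_fg A B
  obtain ⟨n, hn⟩ := Ideal.exists_pow_le_of_le_radical_of_fg (I := I) (J := ⊥) hle hfg
  have hid : I * I = I := by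
    refine (Ideal.cotangent_subsingleton_iff I).mp ?_
    exact ‹Subsingleton (Ω[B⁄A])›
  have hbot : I = ⊥ := by
    have : ∀ m : ℕ, I ^ (m + 1) = I := by
      intro m
      induction m with
      | zero => exact pow_one I
      | succ m ih => rw [pow_succ, ih, hid]
    refine le_bot_iff.mp ((this n).ge.trans ((Ideal.pow_le_pow_right n.le_succ).trans hn))
  haveI : Algebra.IsEpi A B := by
    rw [Algebra.isEpi_iff_forall_one_tmul_eq]
    intro b
    rw [← sub_eq_zero, ← Ideal.mem_bot, ← hbot]
    show Algebra.TensorProduct.lmul' A ((1 : B) ⊗ₜ[A] b - b ⊗ₜ[A] 1) = 0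
    simp
  exact (Algebra.isEpi_iff_surjective_algebraMap_of_finite).mp inferInstance

end Groth.Agent.PBasisLib
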