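import Mathlib
import Groth.Prelude.Def_EGA41
import Groth.Agent.PBasisLib.Radicial

/-!
Systems of `p`-generators, `p`-bases and the universal property of an algebra with a `p`-basis.
-/

set_option autoImplicit false
set_option linter.style.haveILetI false

universe u w

open EGA41

namespace Groth.Agent.PBasisLib

variable (p : ℕ) [hp : Fact p.Prime] (A : Type u) {B : Type u} [CommRing A] [CommRing B] [Algebra A B]
variable {ι : Type u} (x : ι → B)

omit hp in
theorem pow_mem (b : B) : b ^ p ∈ pPowerSubalgebra p A B := Algebra.subset_adjoin ⟨b, rfl⟩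

omit hp in
theorem algebraMap_mem' (a : A) : algebraMap A B a ∈ pPowerSubalgebra p A B := Subalgebra.algebraMap_mem _ a

theorem pMonomial_add {R : Type*} [CommRing R] (z : ι → R) (e f : ι →₀ ℕ) :
    (e + f).prod (fun i n => z i ^ n) = e.prod (fun i n => z i ^ n) * f.prod (fun i n => z i ^ n) :=
  Finsupp.prod_add_index' (fun i => pow_zero _) (fun i m n => pow_add _ m n)

theorem exponent_decomp (e : ι →₀ ℕ) :
    ∃ q r : ι →₀ ℕ, (∀ i, r i < p) ∧ e = p • q + r := by
  refine ⟨e.mapRange (· / p) (Nat.zero_div p), e.mapRange (· % p) (Nat.zero_mod p), fun i => ?_, ?_⟩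
  · simpa using Nat.mod_lt _ hp.out.pos
  · ext i
    simp [Nat.div_add_mod]

/-- The value of `p • q` as a product of `p`th powers. -/
noncomputable def powPart (q : ι →₀ ℕ) : pPowerSubalgebra p A B :=
  q.prod fun i n => (⟨x i ^ p, pow_mem p A (x i)⟩ : pPowerSubalgebra p A B) ^ n

theorem prod_nsmul {R : Type*} [CommRing R] (z : ι → R) (q : ι →₀ ℕ) :
    (p • q).prod (fun i n => z i ^ n) = q.prod fun i n => (z i ^ p) ^ n := by
  rw [Finsupp.prod_of_support_subset _ Finsupp.support_smul _ (fun i _ => pow_zero _)]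
  exact Finset.prod_congr rfl fun i _ => by simp [pow_mul]

theorem pMonomial_nsmul_add (q r : ι →₀ ℕ) :
    pMonomial x (p • q + r) = powPart p A x q • pMonomial x r := by
  rw [Subalgebra.smul_def, smul_eq_mul]
  refine (pMonomial_add x _ _).trans ?_
  congr 1
  rw [prod_nsmul p x q]
  show _ = (pPowerSubalgebra p A B).val
    (q.prod fun i n => (⟨x i ^ p, pow_mem p A (x i)⟩ : pPowerSubalgebra p A B) ^ n)
  rw [map_finsuppProd]
  exact Finsupp.prod_congr fun i _ => by rw [map_pow]; rfl

/-- The span of the reduced monomials. -/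
noncomputable def monSpan : Submodule (pPowerSubalgebra p A B) B :=
  Submodule.span (pPowerSubalgebra p A B)
    (Set.range fun e : {e : ι →₀ ℕ // ∀ i, e i < p} => pMonomial x e.1)

theorem pMonomial_mem (e : ι →₀ ℕ) : pMonomial x e ∈ monSpan p A x := by
  obtain ⟨q, r, hr, rfl⟩ := exponent_decomp p e
  rw [pMonomial_nsmul_add p A]
  exact Submodule.smul_mem _ _ (Submodule.subset_span ⟨⟨r, hr⟩, rfl⟩)

theorem monSpan_eq_adjoin :
    monSpan p A x = Subalgebra.toSubmodule (Algebra.adjoin (pPowerSubalgebra p A B) (Set.range x)) := by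
  refine le_antisymm (Submodule.span_le.mpr ?_) ?_
  · rintro _ ⟨e, rfl⟩
    exact Subalgebra.prod_mem _ fun i _ => Subalgebra.pow_mem _ (Algebra.subset_adjoin (Set.mem_range_self i)) _
  · let C : Subalgebra (pPowerSubalgebra p A B) B :=
      { carrier := monSpan p A x
        one_mem' := by
          have := pMonomial_mem p A x 0
          simpa [pMonomial] using this
        mul_mem' := by
          intro a b ha hb
          refine Submodule.span_induction₂ (p := fun a b _ _ => a * b ∈ monSpan p A x) ?_ ?_ ?_ ?_ ?_ ?_ ?_ ha hb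
          · rintro _ _ ⟨e, rfl⟩ ⟨f, rfl⟩
            show pMonomial x e.1 * pMonomial x f.1 ∈ _
            have h : pMonomial x (e.1 + f.1) = pMonomial x e.1 * pMonomial x f.1 := pMonomial_add x _ _
            rw [← h]
            exact pMonomial_mem p A x _
          · intro y _; simp
          · intro y _; simp
          · intro a b c _ _ _ h1 h2; rw [add_mul]; exact Submodule.add_mem _ h1 h2
          · intro a b c _ _ _ h1 h2; rw [mul_add]; exact Submodule.add_mem _ h1 h2
          · intro r a b _ _ h; rw [smul_mul_assoc]; exact Submodule.smul_mem _ _ h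
          · intro r a b _ _ h; rw [mul_smul_comm]; exact Submodule.smul_mem _ _ h
        zero_mem' := Submodule.zero_mem _
        add_mem' := Submodule.add_mem _
        algebraMap_mem' := fun r => by
          rw [Algebra.algebraMap_eq_smul_one]
          refine Submodule.smul_mem _ r ?_
          have := pMonomial_mem p A x 0
          simpa [pMonomial] using this }
    show Algebra.adjoin (pPowerSubalgebra p A B) (Set.range x) ≤ C
    rw [Algebra.adjoin_le_iff]
    rintro _ ⟨i, rfl⟩
    have := pMonomial_mem p A x (Finsupp.single i 1)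
    show x i ∈ monSpan p A x
    simpa [pMonomial] using this

theorem isPGenerating_iff_adjoin :
    Algebra.adjoin (pPowerSubalgebra p A B) (Set.range x) = ⊤ ↔ IsPGenerating p A x := by
  rw [IsPGenerating, ← monSpan, monSpan_eq_adjoin, Algebra.toSubmodule_eq_top]

variable {p A x}

theorem hom_ext (hx : IsPGenerating p A x) {E : Type w} [CommRing E] {v w : B →+* E}
    (hS : ∀ s : pPowerSubalgebra p A B, v s = w s) (hxi : ∀ i, v (x i) = w (x i)) : v = w := by
  refine RingHom.ext fun b => ?_
  have hb : b ∈ Algebra.adjoin (pPowerSubalgebra p A B) (Set.range x) := by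
    rw [(isPGenerating_iff_adjoin p A x).mpr hx]; exact Algebra.mem_top
  induction hb using Algebra.adjoin_induction with
  | mem y hy => obtain ⟨i, rfl⟩ := hy; exact hxi i
  | algebraMap r => exact hS r
  | add _ _ _ _ h1 h2 => rw [map_add, map_add, h1, h2]
  | mul _ _ _ _ h1 h2 => rw [map_mul, map_mul, h1, h2]

theorem exists_hom (hx : IsPBasis p A x) {E : Type w} [CommRing E]
    (φ : pPowerSubalgebra p A B →+* E) (z : ι → E)
    (hz : ∀ i, z i ^ p = φ ⟨x i ^ p, pow_mem p A (x i)⟩) :
    ∃ v : B →+* E, (∀ s : pPowerSubalgebra p A B, v s = φ s) ∧ ∀ i, v (x i) = z i := by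
  classical
  let S := pPowerSubalgebra p A B
  letI : Algebra S E := φ.toAlgebra
  let bs : Module.Basis {e : ι →₀ ℕ // ∀ i, e i < p} S B := Module.Basis.mk hx.1 hx.2.ge
  let Φ : B →ₗ[S] E := bs.constr S fun e => e.1.prod fun i n => z i ^ n
  have hΦr : ∀ e : {e : ι →₀ ℕ // ∀ i, e i < p}, Φ (pMonomial x e.1) = e.1.prod fun i n => z i ^ n := by
    intro e
    have h := bs.constr_basis S (fun e => e.1.prod fun i n => z i ^ n) e
    simpa [bs, Φ] using h
  have hΦ : ∀ e : ι →₀ ℕ, Φ (pMonomial x e) = e.prod fun i n => z i ^ n := by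
    intro e
    obtain ⟨q, r, hr, rfl⟩ := exponent_decomp p e
    rw [pMonomial_nsmul_add p A, map_smul, hΦr ⟨r, hr⟩, pMonomial_add, prod_nsmul, Algebra.smul_def]
    congr 1
    show φ (powPart p A x q) = _
    rw [powPart, map_finsuppProd]
    exact Finsupp.prod_congr fun i _ => by rw [map_pow, hz i]
  have h1 : Φ 1 = 1 := by simpa [pMonomial] using hΦ 0
  have hmul : ∀ a b : B, Φ (a * b) = Φ a * Φ b := by
    have key : (LinearMap.mul S B).compr₂ Φ = (LinearMap.mul S E).compl₁₂ Φ Φ := by
      refine bs.ext fun e => bs.ext fun f => ?_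
      show Φ (bs e * bs f) = Φ (bs e) * Φ (bs f)
      simp only [bs, Module.Basis.mk_apply]
      have h : pMonomial x (e.1 + f.1) = pMonomial x e.1 * pMonomial x f.1 := pMonomial_add x _ _
      rw [← h, hΦ, hΦ, hΦ, pMonomial_add]
    exact fun a b => LinearMap.congr_fun (LinearMap.congr_fun key a) b
  refine ⟨(AlgHom.ofLinearMap Φ h1 hmul).toRingHom, fun s => ?_, fun i => ?_⟩
  · exact (AlgHom.ofLinearMap Φ h1 hmul).commutes s
  · simpa [pMonomial] using hΦ (Finsupp.single i 1)

theorem existsUnique_hom (hx : IsPBasis p A x) {E : Type w} [CommRing E]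
    (φ : pPowerSubalgebra p A B →+* E) (z : ι → E)
    (hz : ∀ i, z i ^ p = φ ⟨x i ^ p, pow_mem p A (x i)⟩) :
    ∃! v : B →+* E, (∀ s : pPowerSubalgebra p A B, v s = φ s) ∧ ∀ i, v (x i) = z i := by
  obtain ⟨v, hv⟩ := exists_hom hx φ z hz
  exact ⟨v, hv, fun w hw => hom_ext hx.2 (fun s => (hw.1 s).trans (hv.1 s).symm)
    (fun i => (hw.2 i).trans (hv.2 i).symm)⟩

theorem derivation_ext (hx : IsPGenerating p A x) {L : Type w} [AddCommGroup L] [Module B L] [Module A L]
    {D D' : Derivation A B L} (hS : ∀ s : pPowerSubalgebra p A B, D s = D' s)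
    (hxi : ∀ i, D (x i) = D' (x i)) : D = D' := by
  refine Derivation.ext fun b => ?_
  have hb : b ∈ Algebra.adjoin (pPowerSubalgebra p A B) (Set.range x) := by
    rw [(isPGenerating_iff_adjoin p A x).mpr hx]; exact Algebra.mem_top
  induction hb using Algebra.adjoin_induction with
  | mem y hy => obtain ⟨i, rfl⟩ := hy; exact hxi i
  | algebraMap r => exact hS r
  | add _ _ _ _ h1 h2 => rw [map_add, map_add, h1, h2]
  | mul _ _ _ _ h1 h2 => rw [Derivation.leibniz, Derivation.leibniz, h1, h2]

theorem derivation_pow_eq_zero [CharP B p] {R : Type*} [CommRing R] [Algebra R B] {L : Type w} [AddCommGroup L]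
    [Module B L] [Module R L] (D : Derivation R B L) (b : B) : D (b ^ p) = 0 := by
  rw [Derivation.leibniz_pow, ← Nat.cast_smul_eq_nsmul B, CharP.cast_eq_zero, zero_smul]

/-- Derivations are constant on `A[B^p]`. -/
theorem derivation_eq_zero_of_mem [CharP B p] {L : Type w} [AddCommGroup L] [Module B L] [Module A L]
    (D : Derivation A B L) {b : B} (hb : b ∈ pPowerSubalgebra p A B) : D b = 0 := by
  induction hb using Algebra.adjoin_induction with
  | mem y hy => obtain ⟨c, rfl⟩ := hy; exact derivation_pow_eq_zero D c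
  | algebraMap r => exact D.map_algebraMap r
  | add _ _ _ _ h1 h2 => rw [map_add, h1, h2, add_zero]
  | mul _ _ _ _ h1 h2 => rw [Derivation.leibniz, h1, h2, smul_zero, smul_zero, add_zero]

theorem existsUnique_derivation_int [CharP B p] (hx : IsPBasis p A x) {L : Type u} [AddCommGroup L] [Module B L]
    (δ : pPowerSubalgebra p A B →+ L)
    (hδ : ∀ s t : pPowerSubalgebra p A B, δ (s * t) = (s : B) • δ t + (t : B) • δ s)
    (hδ0 : ∀ i, δ ⟨x i ^ p, pow_mem p A (x i)⟩ = 0) (y : ι → L) :
    ∃! D : Derivation ℤ B L, (∀ s : pPowerSubalgebra p A B, D s = δ s) ∧ ∀ i, D (x i) = y i := by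
  letI : Module Bᵐᵒᵖ L := Module.compHom L (RingEquiv.toOpposite B).symm.toRingHom
  haveI : IsCentralScalar B L := ⟨fun _ _ => rfl⟩
  have hδ1 : δ 1 = 0 := by
    have := hδ 1 1
    rw [mul_one, OneMemClass.coe_one, one_smul] at this
    exact left_eq_add.mp this
  let φ : pPowerSubalgebra p A B →+* TrivSqZeroExt B L :=
    { toFun := fun s => TrivSqZeroExt.inl (s : B) + TrivSqZeroExt.inr (δ s)
      map_one' := by rw [hδ1]; simp
      map_zero' := by simp
      map_add' := fun s t => by ext <;> simp
      map_mul' := fun s t => by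
        apply TrivSqZeroExt.ext
        · simp
        · simp [hδ, op_smul_eq_smul, add_comm] }
  have hz : ∀ i, (TrivSqZeroExt.inl (x i) + TrivSqZeroExt.inr (y i) : TrivSqZeroExt B L) ^ p =
      φ ⟨x i ^ p, pow_mem p A (x i)⟩ := by
    intro i
    apply TrivSqZeroExt.ext
    · simp [φ]
    · rw [TrivSqZeroExt.snd_pow]
      simp [φ, hδ0, ← Nat.cast_smul_eq_nsmul B]
  obtain ⟨v, hv1, hv2⟩ := exists_hom hx φ _ hz
  have hfst : (TrivSqZeroExt.fstHom B B L).toRingHom.comp v = RingHom.id B :=
    hom_ext hx.2 (fun s => by simp [hv1, φ]) (fun i => by simp [hv2])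
  have hfst' : ∀ b, TrivSqZeroExt.fst (v b) = b := fun b => RingHom.congr_fun hfst b
  let D : Derivation ℤ B L := Derivation.mk'
    (AddMonoidHom.mk' (fun b => TrivSqZeroExt.snd (v b)) (fun a b => by simp)).toIntLinearMap
    (fun a b => by simp [TrivSqZeroExt.snd_mul, hfst', op_smul_eq_smul])
  refine ⟨D, ⟨fun s => by simp [D, hv1, φ], fun i => by simp [D, hv2]⟩, fun D' hD' => ?_⟩
  let v' : B →+* TrivSqZeroExt B L :=
    { toFun := fun b => TrivSqZeroExt.inl b + TrivSqZeroExt.inr (D' b)
      map_one' := by simp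
      map_zero' := by simp
      map_add' := fun a b => by ext <;> simp
      map_mul' := fun a b => by
        apply TrivSqZeroExt.ext
        · simp
        · simp [op_smul_eq_smul, add_comm] }
  have hvv : v' = v := hom_ext hx.2 (fun s => by simp [v', hv1, φ, hD'.1]) (fun i => by simp [v', hv2, hD'.2])
  refine Derivation.ext fun b => ?_
  have := congrArg TrivSqZeroExt.snd (RingHom.congr_fun hvv b)
  simpa [v', D] using this

theorem exists_derivation [CharP B p] (hx : IsPBasis p A x) {L : Type u} [AddCommGroup L] [Module B L]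
    [Module A L] [IsScalarTower A B L] (y : ι → L) :
    ∃ D : Derivation A B L, ∀ i, D (x i) = y i := by
  obtain ⟨D, ⟨hS, hy⟩, -⟩ := existsUnique_derivation_int hx (0 : pPowerSubalgebra p A B →+ L) (by simp) (by simp) y
  refine ⟨Derivation.mk'
    { toFun := D
      map_add' := map_add D
      map_smul' := fun a b => by
        have : D (algebraMap A B a) = 0 := hS ⟨_, algebraMap_mem' p A a⟩
        rw [Algebra.smul_def, D.leibniz, this, smul_zero, add_zero, algebraMap_smul, RingHom.id_apply] }
    D.leibniz, hy⟩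

theorem span_D_eq_top [CharP B p] (hx : IsPGenerating p A x) :
    Submodule.span B (Set.range fun i => KaehlerDifferential.D A B (x i)) = ⊤ := by
  set M := Submodule.span B (Set.range fun i => KaehlerDifferential.D A B (x i))
  rw [eq_top_iff, ← KaehlerDifferential.span_range_derivation, Submodule.span_le]
  rintro _ ⟨b, rfl⟩
  have hb : b ∈ Algebra.adjoin (pPowerSubalgebra p A B) (Set.range x) := by
    rw [(isPGenerating_iff_adjoin p A x).mpr hx]; exact Algebra.mem_top
  induction hb using Algebra.adjoin_induction with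
  | mem y hy => obtain ⟨i, rfl⟩ := hy; exact Submodule.subset_span ⟨i, rfl⟩
  | algebraMap r =>
    have h0 : KaehlerDifferential.D A B (algebraMap (pPowerSubalgebra p A B) B r) = 0 :=
      derivation_eq_zero_of_mem (p := p) (KaehlerDifferential.D A B) r.2
    rw [SetLike.mem_coe, h0]
    exact M.zero_mem
  | add _ _ _ _ h1 h2 => rw [map_add]; exact M.add_mem h1 h2
  | mul _ _ _ _ h1 h2 => rw [Derivation.leibniz]; exact M.add_mem (M.smul_mem _ h2) (M.smul_mem _ h1)

theorem linearIndependent_D [CharP B p] (hx : IsPBasis p A x) :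
    LinearIndependent B fun i => KaehlerDifferential.D A B (x i) := by
  classical
  rw [linearIndependent_iff']
  intro s g hg j hj
  obtain ⟨D, hD⟩ := exists_derivation hx (L := B) (fun i => if i = j then 1 else 0)
  have := congrArg D.liftKaehlerDifferential hg
  simpa [map_sum, map_smul, hD, hj] using this

theorem exists_basis_D [CharP B p] (hx : IsPBasis p A x) :
    ∃ b : Module.Basis ι B (Ω[B⁄A]), ∀ i, b i = KaehlerDifferential.D A B (x i) :=
  ⟨Module.Basis.mk (linearIndependent_D hx) (span_D_eq_top hx.2).ge, fun i => Module.Basis.mk_apply _ _ i⟩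

theorem isPGenerating_of_span_D [CharP B p] [Algebra.FiniteType (pPowerSubalgebra p A B) B]
    (h : Submodule.span B (Set.range fun i => KaehlerDifferential.D A B (x i)) = ⊤) : IsPGenerating p A x := by
  rw [← isPGenerating_iff_adjoin]
  set C := Algebra.adjoin (pPowerSubalgebra p A B) (Set.range x)
  haveI : Algebra.FiniteType C B := Algebra.FiniteType.of_restrictScalars_finiteType (pPowerSubalgebra p A B) C B
  haveI : Subsingleton (Ω[B⁄C]) := by
    have hsurj := KaehlerDifferential.map_surjective A C B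
    refine subsingleton_of_forall_eq 0 fun ω => ?_
    obtain ⟨η, rfl⟩ := hsurj ω
    have : η ∈ Submodule.span B (Set.range fun i => KaehlerDifferential.D A B (x i)) := by
      rw [h]; exact Submodule.mem_top
    induction this using Submodule.span_induction with
    | mem y hy =>
      obtain ⟨i, rfl⟩ := hy
      rw [KaehlerDifferential.map_D]
      exact (KaehlerDifferential.D C B).map_algebraMap (⟨x i, Algebra.subset_adjoin (Set.mem_range_self i)⟩ : C)
    | zero => rw [map_zero]
    | add _ _ _ _ h1 h2 => rw [map_add, h1, h2, add_zero]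
    | smul r _ _ h1 => rw [map_smul, h1, smul_zero]
  have hs := surjective_of_subsingleton_kaehler p (A := C) (B := B) 1 fun b =>
    ⟨⟨b ^ p, C.algebraMap_mem ⟨b ^ p, pow_mem p A b⟩⟩, (congrArg (b ^ ·) (pow_one p)).symm⟩
  rw [eq_top_iff]
  intro b _
  obtain ⟨c, rfl⟩ := hs b
  exact c.2

end Groth.Agent.PBasisLib
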