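import Mathlib
import Groth.Agent.PBasisLib.Universal

/-!
`p`-independence in field extensions of characteristic `p`.
-/

set_option autoImplicit false
set_option linter.style.haveILetI false

universe u

open EGA41

namespace Groth.Agent.PBasisLib

variable (p : ℕ) [hp : Fact p.Prime] (k : Type u) {K : Type u} [Field k] [Field K] [Algebra k K] [CharP K p]
variable {ι : Type u}

/-- The field generated over `k` by the `p`th powers and a set. -/
noncomputable def Fp (T : Set K) : IntermediateField k K :=
  IntermediateField.adjoin k ((Set.range fun y : K => y ^ p) ∪ T)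

omit hp [CharP K p] in
theorem Fp_mono {T T' : Set K} (h : T ⊆ T') : Fp p k T ≤ Fp p k T' :=
  IntermediateField.adjoin.mono _ _ _ (Set.union_subset_union_right _ h)

omit hp [CharP K p] in
theorem pow_mem_Fp (T : Set K) (y : K) : y ^ p ∈ Fp p k T :=
  IntermediateField.subset_adjoin _ _ (Or.inl ⟨y, rfl⟩)

omit hp [CharP K p] in
theorem subset_Fp (T : Set K) : T ⊆ Fp p k T :=
  fun _ hy => IntermediateField.subset_adjoin _ _ (Or.inr hy)

omit [CharP K p] in
/-- A subalgebra containing all `p`th powers is a field. -/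
theorem mem_Fp_iff (T : Set K) (y : K) :
    y ∈ Fp p k T ↔ y ∈ Algebra.adjoin (pPowerSubalgebra p k K) T := by
  constructor
  · intro hy
    let C : Subalgebra k K := (Algebra.adjoin (pPowerSubalgebra p k K) T).restrictScalars k
    have hpow : ∀ z : K, z ^ p ∈ C := fun z =>
      (Algebra.adjoin (pPowerSubalgebra p k K) T).algebraMap_mem ⟨z ^ p, pow_mem p k z⟩
    let C' : IntermediateField k K := C.toIntermediateField (fun z hz => by
      rcases eq_or_ne z 0 with rfl | hz0
      · simp
      have : z⁻¹ = z ^ (p - 1) * z⁻¹ ^ p := by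
        conv_rhs => rw [show p = (p - 1) + 1 by have := hp.out.pos; omega, pow_succ z⁻¹]
        rw [Nat.add_sub_cancel, ← mul_assoc, ← mul_pow, mul_inv_cancel₀ hz0, one_pow, one_mul]
      rw [this]
      exact C.mul_mem (C.pow_mem hz _) (hpow _))
    have : Fp p k T ≤ C' := by
      rw [Fp, IntermediateField.adjoin_le_iff]
      rintro z (⟨w, rfl⟩ | hz)
      · exact hpow w
      · exact Algebra.subset_adjoin hz
    exact this hy
  · intro hy
    induction hy using Algebra.adjoin_induction with
    | mem z hz => exact subset_Fp p k T hz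
    | algebraMap r =>
      have hle : pPowerSubalgebra p k K ≤ (Fp p k T).toSubalgebra :=
        Algebra.adjoin_le (by rintro _ ⟨w, rfl⟩; exact pow_mem_Fp p k T w)
      exact hle r.2
    | add _ _ _ _ h1 h2 => exact add_mem h1 h2
    | mul _ _ _ _ h1 h2 => exact mul_mem h1 h2

omit [CharP K p] in
theorem isPGenerating_iff_Fp (x : ι → K) : IsPGenerating p k x ↔ Fp p k (Set.range x) = ⊤ := by
  rw [← isPGenerating_iff_adjoin]
  constructor
  · intro h
    exact eq_top_iff.mpr fun y _ => (mem_Fp_iff p k _ y).mpr (h ▸ Algebra.mem_top)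
  · intro h
    exact eq_top_iff.mpr fun y _ => (mem_Fp_iff p k _ y).mp (h ▸ IntermediateField.mem_top)

theorem minpoly_natDegree {F : IntermediateField k K} (hF : ∀ y : K, y ^ p ∈ F) {y : K} (hy : y ∉ F) :
    (minpoly F y).natDegree = p := by
  have hirr : Irreducible (Polynomial.X ^ p - Polynomial.C (⟨y ^ p, hF y⟩ : F)) := by
    refine X_pow_sub_C_irreducible_of_prime hp.out fun b hb => hy ?_
    have h1 : (b : K) ^ p = y ^ p := congrArg Subtype.val hb
    rw [← frobenius_def, ← frobenius_def] at h1
    have := frobenius_inj K p h1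
    rw [← this]
    exact b.2
  have h := minpoly.eq_of_irreducible_of_monic hirr (x := y) (by simp)
    (Polynomial.monic_X_pow_sub_C _ hp.out.ne_zero)
  rw [← h, Polynomial.natDegree_X_pow_sub_C]

/-- Exchange. -/
theorem exchange {T : Set K} {a t : K} (ht : t ∉ Fp p k T) (hta : t ∈ Fp p k (T ∪ {a})) :
    a ∈ Fp p k (T ∪ {t}) := by
  have ha : a ∉ Fp p k T := fun h => ht (by
    refine (?_ : Fp p k (T ∪ {a}) ≤ Fp p k T) hta
    rw [Fp, IntermediateField.adjoin_le_iff]
    rintro z (⟨w, rfl⟩ | hz | rfl)
    · exact pow_mem_Fp p k T w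
    · exact subset_Fp p k T hz
    · exact h)
  have hres : ∀ b : K, (IntermediateField.adjoin (Fp p k T) {b}).restrictScalars k = Fp p k (T ∪ {b}) := by
    intro b
    rw [Fp, IntermediateField.adjoin_adjoin_left, Fp, Set.union_assoc]
  set F := Fp p k T with hF
  have hint : ∀ b : K, IsIntegral F b := fun b =>
    IsIntegral.of_pow hp.out.pos (isIntegral_algebraMap (x := (⟨b ^ p, pow_mem_Fp p k T b⟩ : F)))
  have hle : IntermediateField.adjoin F {t} ≤ IntermediateField.adjoin F {a} := by
    rw [IntermediateField.adjoin_simple_le_iff]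
    rw [← hres a] at hta
    exact hta
  haveI : FiniteDimensional F (IntermediateField.adjoin F {a}) :=
    IntermediateField.adjoin.finiteDimensional (hint a)
  have heq := IntermediateField.eq_of_le_of_finrank_eq hle (by
    rw [IntermediateField.adjoin.finrank (hint t), IntermediateField.adjoin.finrank (hint a),
      minpoly_natDegree p k (pow_mem_Fp p k T) ht, minpoly_natDegree p k (pow_mem_Fp p k T) ha])
  rw [← hres t, IntermediateField.mem_restrictScalars, heq]
  exact IntermediateField.mem_adjoin_simple_self F a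

/-- No member lies in the field generated by the others. -/
def Free (x : ι → K) : Prop := ∀ a : ι, x a ∉ Fp p k (x '' {b | b ≠ a})

omit hp [CharP K p] in
theorem Free.injective {x : ι → K} (hx : Free p k x) : Function.Injective x := fun a b hab => by
  by_contra h
  exact hx a (subset_Fp p k _ ⟨b, Ne.symm h, hab.symm⟩)

theorem isPIndependent_of_free {x : ι → K} (hx : Free p k x) : IsPIndependent p k x := by
  classical
  have key : ∀ (T : Finset ι) (s : Finset (ι →₀ ℕ)), (∀ e ∈ s, (∀ i, e i < p) ∧ e.support ⊆ T) →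
      ∀ g : (ι →₀ ℕ) → pPowerSubalgebra p k K, (∑ e ∈ s, (g e : K) * pMonomial x e) = 0 →
        ∀ e ∈ s, g e = 0 := by
    intro T
    induction T using Finset.induction with
    | empty =>
      intro s hs g hg e he
      have h0 : ∀ f ∈ s, f = 0 := fun f hf => by
        have := (hs f hf).2
        rwa [Finset.subset_empty, Finsupp.support_eq_empty] at this
      rw [Finset.sum_eq_single_of_mem e he (fun f hf hne => absurd ((h0 f hf).trans (h0 e he).symm) hne)] at hg
      rw [h0 e he, pMonomial, Finsupp.prod_zero_index, mul_one] at hg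
      rw [h0 e he]
      exact Subtype.ext hg
    | insert a T ha ih =>
      intro s hs g hg
      set F := Fp p k (x '' (T : Set ι)) with hF
      have hxa : x a ∉ F := fun h => hx a (Fp_mono p k (Set.image_mono (s := (T : Set ι)) (t := {b | b ≠ a}) (fun i hi => show i ≠ a from ne_of_mem_of_not_mem (Finset.mem_coe.mp hi) ha)) h)
      let c : ℕ → K := fun n => ∑ e ∈ s.filter (fun e => e a = n), (g e : K) * pMonomial x (e.erase a)
      have hc : ∀ n, c n ∈ F := by
        intro n
        refine sum_mem fun e he => mul_mem ?_ (prod_mem fun i hi => _root_.pow_mem ?_ _)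
        · have hle : pPowerSubalgebra p k K ≤ F.toSubalgebra :=
            Algebra.adjoin_le (by rintro _ ⟨w, rfl⟩; exact pow_mem_Fp p k _ w)
          exact hle (g e).2
        · rw [Finsupp.support_erase, Finset.mem_erase] at hi
          refine subset_Fp p k _ ⟨i, ?_, rfl⟩
          exact (Finset.mem_insert.mp ((hs e (Finset.mem_filter.mp he).1).2 hi.2)).resolve_left hi.1
      have hsum : ∑ n : Fin p, c n * x a ^ (n : ℕ) = 0 := by
        rw [Fin.sum_univ_eq_sum_range (fun n => c n * x a ^ n), ← hg]
        rw [← Finset.sum_fiberwise_of_maps_to (s := s) (t := Finset.range p) (g := fun e => e a)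
          (fun e he => Finset.mem_range.mpr ((hs e he).1 a))]
        refine Finset.sum_congr rfl fun n _ => ?_
        rw [Finset.sum_mul]
        refine Finset.sum_congr rfl fun e he => ?_
        rw [mul_assoc, pMonomial, pMonomial]
        congr 1
        conv_rhs => rw [← Finsupp.erase_add_single a e]
        rw [pMonomial_add, Finsupp.prod_single_index (h := fun i n => x i ^ n) (pow_zero (x a)), (Finset.mem_filter.mp he).2]
      have hlin : LinearIndependent F fun n : Fin p => x a ^ (n : ℕ) := by
        have h := linearIndependent_pow (K := F) (x a)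
        rw [minpoly_natDegree p k (pow_mem_Fp p k _) hxa] at h
        exact h
      have hc0 : ∀ n : Fin p, c n = 0 := fun n => by
        have := Fintype.linearIndependent_iff.mp hlin (fun n => (⟨c n, hc n⟩ : F)) hsum n
        exact congrArg Subtype.val this
      intro e he
      set n := e a with hn
      have hinj : Set.InjOn (fun f : ι →₀ ℕ => f.erase a) (s.filter (fun f => f a = n) : Set (ι →₀ ℕ)) := by
        intro f hf f' hf' hff'
        simp only [Finset.coe_filter, Set.mem_setOf_eq] at hf hf'
        rw [← Finsupp.erase_add_single a f, ← Finsupp.erase_add_single a f', hf.2, hf'.2]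
        exact congrArg (· + _) hff'
      have := ih ((s.filter (fun f => f a = n)).image (fun f => f.erase a)) (fun f hf => by
          obtain ⟨f', hf', rfl⟩ := Finset.mem_image.mp hf
          refine ⟨fun i => ?_, fun i hi => ?_⟩
          · rw [Finsupp.erase_apply]
            split_ifs
            · exact hp.out.pos
            · exact (hs f' (Finset.mem_filter.mp hf').1).1 i
          · rw [Finsupp.support_erase, Finset.mem_erase] at hi
            exact (Finset.mem_insert.mp ((hs f' (Finset.mem_filter.mp hf').1).2 hi.2)).resolve_left hi.1)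
        (fun f => g (f + Finsupp.single a n)) (by
          rw [Finset.sum_image hinj]
          refine Eq.trans (Finset.sum_congr rfl fun f hf => ?_) (hc0 ⟨n, (hs e he).1 a⟩)
          show (g (f.erase a + Finsupp.single a n) : K) * _ = _
          rw [← (Finset.mem_filter.mp hf).2, Finsupp.erase_add_single])
        (e.erase a) (Finset.mem_image.mpr ⟨e, Finset.mem_filter.mpr ⟨he, hn.symm⟩, rfl⟩)
      rwa [hn, Finsupp.erase_add_single] at this
  rw [IsPIndependent, linearIndependent_iff']
  intro s g hg e he
  let g' : (ι →₀ ℕ) → pPowerSubalgebra p k K := fun f => if h : ∀ i, f i < p then g ⟨f, h⟩ else 0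
  have hg'e : ∀ f : {e : ι →₀ ℕ // ∀ i, e i < p}, g' f.1 = g f := fun f => dif_pos f.2
  have := key ((s.image Subtype.val).biUnion Finsupp.support) (s.image Subtype.val) (fun f hf => by
      refine ⟨?_, fun i hi => Finset.mem_biUnion.mpr ⟨f, hf, hi⟩⟩
      obtain ⟨f', -, rfl⟩ := Finset.mem_image.mp hf
      exact f'.2) g' (by
      rw [Finset.sum_image (Subtype.val_injective.injOn)]
      refine Eq.trans (Finset.sum_congr rfl fun f _ => ?_) hg
      rw [hg'e]
      rfl) e.1 (Finset.mem_image_of_mem _ he)
  rwa [hg'e] at this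

omit [CharP K p] in
theorem free_of_isPIndependent {x : ι → K} (hx : IsPIndependent p k x) : Free p k x := by
  classical
  intro a ha
  let j : Function.Embedding {b : ι // b ≠ a} ι := Function.Embedding.subtype _
  let z : {b : ι // b ≠ a} → K := x ∘ j
  have hr : x '' {b | b ≠ a} = Set.range z := by
    ext y
    simp [z, j]
  rw [hr, mem_Fp_iff, ← Subalgebra.mem_toSubmodule, ← monSpan_eq_adjoin] at ha
  let E0 : {e : ι →₀ ℕ // ∀ i, e i < p} := ⟨Finsupp.single a 1, fun i => by
    rw [Finsupp.single_apply]
    split_ifs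
    · exact hp.out.one_lt
    · exact hp.out.pos⟩
  refine (LinearIndependent.notMem_span_image hx (s := {e | e.1 a = 0}) (x := E0) (by simp [E0])) ?_
  have h0 : pMonomial x E0.1 = x a := by simp [pMonomial, E0]
  rw [h0]
  refine Submodule.span_mono ?_ ha
  rintro _ ⟨e, rfl⟩
  refine ⟨⟨e.1.embDomain j, fun i => ?_⟩, ?_, ?_⟩
  · by_cases h : i ∈ Set.range j
    · obtain ⟨b, rfl⟩ := h
      rw [Finsupp.embDomain_apply_self]
      exact e.2 b
    · rw [Finsupp.embDomain_notin_range _ _ _ h]
      exact hp.out.pos
  · show Finsupp.embDomain j e.1 a = 0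
    exact Finsupp.embDomain_notin_range _ _ _ (fun ⟨b, hb⟩ => b.2 hb)
  · show pMonomial x (e.1.embDomain j) = pMonomial z e.1
    rw [pMonomial, Finsupp.prod_embDomain]
    rfl

theorem isPIndependent_iff_free (x : ι → K) : IsPIndependent p k x ↔ Free p k x :=
  ⟨free_of_isPIndependent p k, isPIndependent_of_free p k⟩

/-- A set is free when no element lies in the field generated by the others. -/
def SetFree (T : Set K) : Prop := ∀ t ∈ T, t ∉ Fp p k (T \ {t})

omit hp [CharP K p] in
theorem free_val_iff (T : Set K) : Free p k (Subtype.val : T → K) ↔ SetFree p k T := by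
  refine ⟨fun h t ht => ?_, fun h t => ?_⟩
  · have := h ⟨t, ht⟩
    rwa [show (Subtype.val '' {b : T | b ≠ ⟨t, ht⟩}) = T \ {t} by ext y; simp [and_comm]] at this
  · rw [show (Subtype.val '' {b : T | b ≠ t}) = T \ {(t : K)} by ext y; simp [Subtype.ext_iff, and_comm]]
    exact h t.1 t.2

omit hp [CharP K p] in
theorem setFree_range {x : ι → K} (hx : Free p k x) : SetFree p k (Set.range x) := by
  rintro _ ⟨a, rfl⟩ h
  refine hx a (Fp_mono p k ?_ h)
  rintro _ ⟨⟨b, rfl⟩, hb⟩
  exact ⟨b, fun h' => hb (by rw [h']; rfl), rfl⟩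

theorem setFree_insert {T : Set K} (hT : SetFree p k T) {a : K} (ha : a ∉ Fp p k T) :
    SetFree p k (insert a T) := by
  intro t ht hmem
  have haT : a ∉ T := fun h => ha (subset_Fp p k T h)
  rcases ht with rfl | ht
  · rw [Set.insert_sdiff_self_of_notMem haT] at hmem
    exact ha hmem
  · have hne : a ≠ t := fun h => haT (h ▸ ht)
    have : insert a T \ {t} = (T \ {t}) ∪ {a} := by
      ext y
      simp only [Set.mem_sdiff, Set.mem_insert_iff, Set.mem_singleton_iff, Set.mem_union]
      by_cases hy : y = a <;> simp [hy, hne]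
    rw [this] at hmem
    exact ha (Fp_mono p k (Set.union_subset Set.sdiff_subset (Set.singleton_subset_iff.mpr ht))
      (exchange p k (hT t ht) hmem))

theorem exists_maximal_setFree {L S : Set K} (hLS : L ⊆ S) (hL : SetFree p k L) :
    ∃ B : Set K, L ⊆ B ∧ B ⊆ S ∧ SetFree p k B ∧ Fp p k B = Fp p k S := by
  obtain ⟨B, hLB, ⟨hBS, hB⟩, hmax⟩ := zorn_subset_nonempty {T : Set K | T ⊆ S ∧ SetFree p k T}
    (fun c hc hchain hne => ⟨⋃₀ c, ⟨Set.sUnion_subset fun T hT => (hc hT).1, by
      intro t ⟨T₀, hT₀, ht⟩ hmem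
      have hle : Fp p k (⋃₀ c \ {t}) ≤ ⨆ T : c, Fp p k ((T : Set K) \ {t}) := by
        rw [Fp, IntermediateField.adjoin_le_iff]
        rintro y (⟨w, rfl⟩ | ⟨⟨T, hT, hy⟩, hyt⟩)
        · exact le_iSup (fun T : c => Fp p k ((T : Set K) \ {t})) ⟨T₀, hT₀⟩ (pow_mem_Fp p k _ w)
        · exact le_iSup (fun T : c => Fp p k ((T : Set K) \ {t})) ⟨T, hT⟩ (subset_Fp p k _ ⟨hy, hyt⟩)
      haveI : Nonempty c := ⟨⟨T₀, hT₀⟩⟩
      have hdir : Directed (· ≤ ·) fun T : c => Fp p k ((T : Set K) \ {t}) := by
        intro T T'
        rcases hchain.total T.2 T'.2 with h | h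
        · exact ⟨T', Fp_mono p k (Set.sdiff_subset_sdiff_left h), le_rfl⟩
        · exact ⟨T, le_rfl, Fp_mono p k (Set.sdiff_subset_sdiff_left h)⟩
      have hmem' := hle hmem
      rw [← SetLike.mem_coe, IntermediateField.coe_iSup_of_directed hdir, Set.mem_iUnion] at hmem'
      obtain ⟨T, hT⟩ := hmem'
      rcases hchain.total hT₀ T.2 with h | h
      · exact (hc T.2).2 t (h ht) hT
      · exact (hc hT₀).2 t ht (Fp_mono p k (Set.sdiff_subset_sdiff_left h) hT)⟩,
      fun T hT => Set.subset_sUnion_of_mem hT⟩) L ⟨hLS, hL⟩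
  refine ⟨B, hLB, hBS, hB, le_antisymm (Fp_mono p k hBS) ?_⟩
  rw [Fp, IntermediateField.adjoin_le_iff]
  rintro y (⟨w, rfl⟩ | hy)
  · exact pow_mem_Fp p k B w
  · by_contra hyB
    exact hyB (subset_Fp p k B (hmax ⟨Set.insert_subset hy hBS, setFree_insert p k hB hyB⟩ (Set.subset_insert y B)
      (Set.mem_insert y B)))

theorem exists_isPBasis {L S : Set K} (hLS : L ⊆ S) (hL : SetFree p k L) (hS : Fp p k S = ⊤) :
    ∃ B : Set K, L ⊆ B ∧ B ⊆ S ∧ IsPBasis p k (Subtype.val : B → K) := by
  obtain ⟨B, h1, h2, h3, h4⟩ := exists_maximal_setFree p k hLS hL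
  refine ⟨B, h1, h2, isPIndependent_of_free p k ((free_val_iff p k B).mpr h3), ?_⟩
  rw [isPGenerating_iff_Fp, Subtype.range_coe, h4, hS]

/-- Every derivation sends the field generated by a set into the span of its values there. -/
theorem derivation_mem_span {L : Type u} [AddCommGroup L] [Module K L] [Module k L]
    (D : Derivation k K L) {T : Set K} {y : K} (hy : y ∈ Fp p k T) : D y ∈ Submodule.span K (D '' T) := by
  rw [mem_Fp_iff] at hy
  induction hy using Algebra.adjoin_induction with
  | mem z hz => exact Submodule.subset_span ⟨z, hz, rfl⟩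
  | algebraMap r =>
    have h0 : D (algebraMap (pPowerSubalgebra p k K) K r) = 0 := derivation_eq_zero_of_mem (p := p) D r.2
    rw [h0]
    exact Submodule.zero_mem _
  | add _ _ _ _ h1 h2 => rw [map_add]; exact Submodule.add_mem _ h1 h2
  | mul _ _ _ _ h1 h2 =>
    rw [Derivation.leibniz]
    exact Submodule.add_mem _ (Submodule.smul_mem _ _ h2) (Submodule.smul_mem _ _ h1)

theorem free_iff_linearIndependent_D (x : ι → K) :
    Free p k x ↔ LinearIndependent K fun i => KaehlerDifferential.D k K (x i) := by
  constructor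
  · intro h
    obtain ⟨B, hxB, -, hB⟩ := exists_isPBasis p k (Set.subset_univ _) (setFree_range p k h)
      (eq_top_iff.mpr fun y _ => subset_Fp p k _ (Set.mem_univ y))
    exact (linearIndependent_D hB).comp (fun i => ⟨x i, hxB (Set.mem_range_self i)⟩)
      (fun i j hij => h.injective p k (congrArg Subtype.val hij))
  · intro h a ha
    refine h.notMem_span_image (s := {b | b ≠ a}) (x := a) (fun hne => hne rfl) ?_
    have := derivation_mem_span p k (KaehlerDifferential.D k K) ha
    rwa [Set.image_image] at this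

theorem isPGenerating_iff_span_D (x : ι → K) :
    IsPGenerating p k x ↔ Submodule.span K (Set.range fun i => KaehlerDifferential.D k K (x i)) = ⊤ := by
  refine ⟨span_D_eq_top, fun h => ?_⟩
  rw [isPGenerating_iff_Fp, eq_top_iff]
  intro a _
  by_contra ha
  obtain ⟨B, -, hBx, hB, hBF⟩ := exists_maximal_setFree p k (Set.empty_subset (Set.range x))
    (fun t ht => absurd ht (Set.notMem_empty t))
  rw [← hBF] at ha
  have haB : a ∉ B := fun h' => ha (subset_Fp p k B h')
  obtain ⟨B', hsub, -, hB'⟩ := exists_isPBasis p k (Set.subset_univ _) (setFree_insert p k hB ha)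
    (eq_top_iff.mpr fun y _ => subset_Fp p k _ (Set.mem_univ y))
  have hli := linearIndependent_D hB'
  refine hli.notMem_span_image (s := {b | (b : K) ∈ B}) (x := ⟨a, hsub (Set.mem_insert a B)⟩) haB ?_
  have hle : Submodule.span K (Set.range fun i => KaehlerDifferential.D k K (x i)) ≤
      Submodule.span K ((fun b : B' => KaehlerDifferential.D k K (b : K)) '' {b | (b : K) ∈ B}) := by
    rw [Submodule.span_le]
    rintro _ ⟨i, rfl⟩
    refine Submodule.span_mono ?_ (derivation_mem_span p k (T := B) (KaehlerDifferential.D k K)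
      (hBF ▸ subset_Fp p k _ (Set.mem_range_self i)))
    rintro _ ⟨b, hb, rfl⟩
    exact ⟨⟨b, hsub (Set.mem_insert_of_mem a hb)⟩, hb, rfl⟩
  exact hle (h ▸ Submodule.mem_top)

end Groth.Agent.PBasisLib
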