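import Mathlib
import Groth.Agent.PBasisLib.Universal

/-!
Transitivity of `p`-generators and of `p`-independence.
-/

set_option autoImplicit false
set_option linter.style.haveILetI false

universe u v w

open EGA41

namespace Groth.Agent.PBasisLib

theorem li_of_range_subset {R : Type u} {R' : Type v} {B : Type w} [CommRing R] [CommRing R'] [CommRing B]
    [Algebra R B] [Algebra R' B] (hR : Function.Injective (algebraMap R B))
    (h : ∀ r : R, algebraMap R B r ∈ Set.range (algebraMap R' B)) {ι : Type*} {v : ι → B}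
    (hv : LinearIndependent R' v) : LinearIndependent R v := by
  rw [linearIndependent_iff'] at hv ⊢
  intro s g hg i hi
  choose σ hσ using h
  apply hR
  rw [← hσ, hv s (fun j => σ (g j)) (by simpa [Algebra.smul_def, hσ] using hg) i hi, map_zero, map_zero]

theorem li_iff_of_range_eq {R : Type u} {R' : Type v} {B : Type w} [CommRing R] [CommRing R'] [CommRing B]
    [Algebra R B] [Algebra R' B] (hR : Function.Injective (algebraMap R B))
    (hR' : Function.Injective (algebraMap R' B))
    (h : Set.range (algebraMap R B) = Set.range (algebraMap R' B)) {ι : Type*} {v : ι → B} :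
    LinearIndependent R v ↔ LinearIndependent R' v :=
  ⟨li_of_range_subset hR' (fun r => h ▸ Set.mem_range_self r),
    li_of_range_subset hR (fun r => h ▸ Set.mem_range_self r)⟩

variable (p : ℕ) [hp : Fact p.Prime]

omit hp in
theorem mem_pPower_iff {A B : Type u} [CommRing A] [CommRing B] [Algebra A B]
    (hpow : ∀ b : B, b ^ p ∈ Set.range (algebraMap A B)) (b : B) :
    b ∈ pPowerSubalgebra p A B ↔ b ∈ Set.range (algebraMap A B) := by
  refine ⟨fun h => ?_, ?_⟩
  · have hle : pPowerSubalgebra p A B ≤ ⊥ := Algebra.adjoin_le (by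
      rintro _ ⟨b, rfl⟩
      exact Algebra.mem_bot.mpr (hpow b))
    exact Algebra.mem_bot.mp (hle h)
  · rintro ⟨a, rfl⟩
    exact Subalgebra.algebraMap_mem _ a

variable {A C B : Type u} [CommRing A] [CommRing C] [CommRing B] [Algebra A C] [Algebra C B] [Algebra A B]
  [IsScalarTower A C B] {ι κ : Type u} {x : ι → C} {y : κ → B}

omit hp in
theorem pow_mem_range_left (hinj : Function.Injective (algebraMap C B))
    (hpow : ∀ b : B, b ^ p ∈ Set.range (algebraMap A B)) (c : C) :
    c ^ p ∈ Set.range (algebraMap A C) := by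
  obtain ⟨a, ha⟩ := hpow (algebraMap C B c)
  exact ⟨a, hinj (by rw [map_pow, ← ha, ← IsScalarTower.algebraMap_apply])⟩

omit hp in
theorem pow_mem_range_right (hpow : ∀ b : B, b ^ p ∈ Set.range (algebraMap A B)) (b : B) :
    b ^ p ∈ Set.range (algebraMap C B) := by
  obtain ⟨a, ha⟩ := hpow b
  exact ⟨algebraMap A C a, by rw [← IsScalarTower.algebraMap_apply, ha]⟩

theorem isPGenerating_sumElim (hinj : Function.Injective (algebraMap C B))
    (hpow : ∀ b : B, b ^ p ∈ Set.range (algebraMap A B)) (hx : IsPGenerating p A x)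
    (hy : IsPGenerating p C y) :
    IsPGenerating p A (Sum.elim (fun i => algebraMap C B (x i)) y) := by
  rw [← isPGenerating_iff_adjoin] at hx hy ⊢
  set T := Algebra.adjoin (pPowerSubalgebra p A B) (Set.range (Sum.elim (fun i => algebraMap C B (x i)) y))
  have hC : ∀ c : C, algebraMap C B c ∈ T := by
    intro c
    have hc : c ∈ Algebra.adjoin (pPowerSubalgebra p A C) (Set.range x) := hx ▸ Algebra.mem_top
    induction hc using Algebra.adjoin_induction with
    | mem z hz => obtain ⟨i, rfl⟩ := hz; exact Algebra.subset_adjoin ⟨Sum.inl i, rfl⟩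
    | algebraMap r =>
      obtain ⟨a, ha⟩ := (mem_pPower_iff p (pow_mem_range_left p hinj hpow) (r : C)).mp r.2
      show algebraMap C B (r : C) ∈ T
      rw [← ha, ← IsScalarTower.algebraMap_apply]
      exact T.algebraMap_mem ⟨_, algebraMap_mem' p A a⟩
    | add _ _ _ _ h1 h2 => rw [map_add]; exact T.add_mem h1 h2
    | mul _ _ _ _ h1 h2 => rw [map_mul]; exact T.mul_mem h1 h2
  rw [eq_top_iff]
  intro b hb0; clear hb0
  have hb : b ∈ Algebra.adjoin (pPowerSubalgebra p C B) (Set.range y) := hy ▸ Algebra.mem_top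
  induction hb using Algebra.adjoin_induction with
  | mem z hz => obtain ⟨i, rfl⟩ := hz; exact Algebra.subset_adjoin ⟨Sum.inr i, rfl⟩
  | algebraMap r =>
    obtain ⟨c, hc⟩ := (mem_pPower_iff p (pow_mem_range_right p hpow) (r : B)).mp r.2
    show (r : B) ∈ T
    rw [← hc]
    exact hC c
  | add _ _ _ _ h1 h2 => exact T.add_mem h1 h2
  | mul _ _ _ _ h1 h2 => exact T.mul_mem h1 h2

theorem pMonomial_sumElim (e : ι →₀ ℕ) (f : κ →₀ ℕ) :
    pMonomial (Sum.elim (fun i => algebraMap C B (x i)) y) (e.sumElim f) =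
      algebraMap C B (pMonomial x e) * pMonomial y f := by
  classical
  rw [pMonomial, pMonomial, pMonomial, map_finsuppProd, Finsupp.prod_sumElim]
  congr 1
  exact Finsupp.prod_congr fun i _ => (map_pow _ _ _).symm

theorem isPIndependent_sumElim_iff (hinj : Function.Injective (algebraMap C B))
    (hpow : ∀ b : B, b ^ p ∈ Set.range (algebraMap A B)) (hx : IsPBasis p A x) :
    IsPIndependent p C y ↔ IsPIndependent p A (Sum.elim (fun i => algebraMap C B (x i)) y) := by
  classical
  set z := Sum.elim (fun i => algebraMap C B (x i)) y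
  let bs : Module.Basis {e : ι →₀ ℕ // ∀ i, e i < p} (pPowerSubalgebra p A C) C :=
    Module.Basis.mk hx.1 hx.2.ge
  let em : {g : ι ⊕ κ →₀ ℕ // ∀ i, g i < p} ≃
      {e : ι →₀ ℕ // ∀ i, e i < p} × {f : κ →₀ ℕ // ∀ i, f i < p} :=
    { toFun := fun g => (⟨(Finsupp.sumFinsuppEquivProdFinsupp g.1).1, fun i => g.2 _⟩,
        ⟨(Finsupp.sumFinsuppEquivProdFinsupp g.1).2, fun i => g.2 _⟩)
      invFun := fun q => ⟨q.1.1.sumElim q.2.1, fun i => by
        cases i
        · simpa using q.1.2 _
        · simpa using q.2.2 _⟩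
      left_inv := fun g => by
        apply Subtype.ext
        ext i
        cases i <;> simp
      right_inv := fun q => by
        refine Prod.ext (Subtype.ext ?_) (Subtype.ext ?_) <;> ext i <;> simp }
  have hmon : (fun g : {g : ι ⊕ κ →₀ ℕ // ∀ i, g i < p} => pMonomial z g.1) ∘ em.symm =
      fun q => bs q.1 • pMonomial y q.2.1 := by
    funext q
    show pMonomial z (q.1.1.sumElim q.2.1) = _
    rw [Module.Basis.mk_apply, Algebra.smul_def]
    exact pMonomial_sumElim q.1.1 q.2.1
  have h1 : IsPIndependent p A z ↔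
      LinearIndependent (pPowerSubalgebra p A C) (fun q : {e : ι →₀ ℕ // ∀ i, e i < p} ×
        {f : κ →₀ ℕ // ∀ i, f i < p} => bs q.1 • pMonomial y q.2.1) := by
    rw [← hmon, linearIndependent_equiv]
    refine li_iff_of_range_eq (R := pPowerSubalgebra p A B) (R' := pPowerSubalgebra p A C) Subtype.val_injective (hinj.comp Subtype.val_injective) ?_
    ext b
    constructor
    · rintro ⟨r, rfl⟩
      obtain ⟨a, ha⟩ := (mem_pPower_iff p hpow (r : B)).mp r.2
      exact ⟨⟨_, algebraMap_mem' p A a⟩, (IsScalarTower.algebraMap_apply A C B a).symm.trans ha⟩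
    · rintro ⟨r, rfl⟩
      obtain ⟨a, ha⟩ := (mem_pPower_iff p (pow_mem_range_left p hinj hpow) (r : C)).mp r.2
      refine ⟨⟨_, algebraMap_mem' p A a⟩, ?_⟩
      show algebraMap A B a = algebraMap C B (r : C)
      rw [← ha, ← IsScalarTower.algebraMap_apply]
  have h2 : IsPIndependent p C y ↔
      LinearIndependent C (fun f : {f : κ →₀ ℕ // ∀ i, f i < p} => pMonomial y f.1) := by
    refine li_iff_of_range_eq (R := pPowerSubalgebra p C B) (R' := C) Subtype.val_injective hinj ?_
    ext b
    refine ⟨fun ⟨r, hr⟩ => hr ▸ (mem_pPower_iff p (pow_mem_range_right p hpow) (r : B)).mp r.2, ?_⟩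
    rintro ⟨c, rfl⟩
    exact ⟨⟨_, algebraMap_mem' p C c⟩, rfl⟩
  rw [h1, h2]
  refine ⟨fun h => linearIndependent_smul bs.linearIndependent h, fun h => ?_⟩
  rw [linearIndependent_iff'] at h ⊢
  intro s c hc f hf
  apply bs.repr.injective
  rw [map_zero]
  ext e
  let E := (s.biUnion fun f => (bs.repr (c f)).support) ∪ {e}
  have hexp : ∀ f ∈ s, c f = ∑ e ∈ E, bs.repr (c f) e • bs e := by
    intro f hf
    conv_lhs => rw [← bs.linearCombination_repr (c f), Finsupp.linearCombination_apply]
    exact Finsupp.sum_of_support_subset _ (fun i hi => Finset.mem_union_left _ (Finset.mem_biUnion.mpr ⟨f, hf, hi⟩))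
      _ (fun i _ => zero_smul _ _)
  exact congrArg Subtype.val (h (E ×ˢ s) (fun q => bs.repr (c q.2) q.1) (by
    rw [Finset.sum_product_right, ← hc]
    refine Finset.sum_congr rfl fun f hf => ?_
    conv_rhs => rw [hexp f hf, Finset.sum_smul]
    exact Finset.sum_congr rfl fun e _ => (smul_assoc _ _ _).symm) (e, f)
    (Finset.mk_mem_product (Finset.mem_union_right _ (Finset.mem_singleton_self e)) hf))

end Groth.Agent.PBasisLib
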