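import Mathlib
import Groth.Prelude.Def_FSRel
import Groth.Agent.PBasisLib.Tower

/-!
Formal smoothness from `p`-bases.
-/

set_option autoImplicit false
set_option linter.style.haveILetI false

universe u

open EGA41

namespace Groth.Agent.PBasisLib

variable (p : ℕ) [hp : Fact p.Prime]

theorem isFormallySmoothRel_of_isPBasis {R A B : Type u} [CommRing R] [CommRing A]
    [CommRing B] [Algebra R A] [Algebra A B] [Algebra R B] [IsScalarTower R A B] [CharP B p]
    (hinj : Function.Injective (algebraMap A B)) (hpow : ∀ b : B, b ^ p ∈ Set.range (algebraMap A B))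
    (hR : Set.range (algebraMap R B) = Set.range fun b : B => b ^ p)
    {ι : Type u} (x : ι → B) (hx : IsPBasis p A x) : IsFormallySmoothRel R A B := by
  intro C _ _ _ _ J _ u₀ ⟨u, hu⟩
  choose σ hσ using fun s : pPowerSubalgebra p A B => (mem_pPower_iff p hpow (s : B)).mp s.2
  let φ : pPowerSubalgebra p A B →+* C :=
    (algebraMap A C).comp
      { toFun := σ
        map_one' := hinj (by simp [hσ])
        map_zero' := hinj (by simp [hσ])
        map_add' := fun s t => hinj (by simp [hσ])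
        map_mul' := fun s t => hinj (by simp [hσ]) }
  obtain ⟨v, hv1, hv2⟩ := exists_hom hx φ (fun i => u (x i)) (fun i => by
    obtain ⟨r, hr⟩ : x i ^ p ∈ Set.range (algebraMap R B) := hR ▸ ⟨_, rfl⟩
    have h1 : σ ⟨x i ^ p, pow_mem p A (x i)⟩ = algebraMap R A r :=
      hinj ((hσ _).trans (hr.symm.trans (IsScalarTower.algebraMap_apply R A B r)))
    show u (x i) ^ p = algebraMap A C (σ ⟨x i ^ p, pow_mem p A (x i)⟩)
    rw [h1, ← IsScalarTower.algebraMap_apply R A C, ← map_pow, ← hr, u.commutes])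
  have hva : ∀ a : A, v (algebraMap A B a) = algebraMap A C a := fun a => by
    refine (hv1 ⟨_, algebraMap_mem' p A a⟩).trans (congrArg (algebraMap A C) (hinj ?_))
    exact hσ _
  refine ⟨⟨v, hva⟩, AlgHom.coe_ringHom_injective (hom_ext hx.2 (fun s => ?_) (fun i => ?_))⟩
  · rw [← hσ s]
    show Ideal.Quotient.mk J (v (algebraMap A B (σ s))) = u₀ (algebraMap A B (σ s))
    rw [hva, u₀.commutes]
    rfl
  · show Ideal.Quotient.mk J (v (x i)) = u₀ (x i)
    rw [hv2]
    exact AlgHom.congr_fun hu (x i)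

section Perfect

variable {A B : Type u} [CommRing A] [CharP A p] [PerfectRing A p] [CommRing B] [Algebra A B] [CharP B p]
  [IsReduced B]

omit [IsReduced B] in
theorem exists_root (s : pPowerSubalgebra p A B) : ∃ b : B, b ^ p = s := by
  obtain ⟨s, hs⟩ := s
  induction hs using Algebra.adjoin_induction with
  | mem y hy => obtain ⟨b, rfl⟩ := hy; exact ⟨b, rfl⟩
  | algebraMap a =>
    obtain ⟨a', rfl⟩ := (PerfectRing.bijective_frobenius (R := A) (p := p)).2 a
    exact ⟨algebraMap A B a', (map_pow (algebraMap A B) a' p).symm⟩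
  | add _ _ _ _ h1 h2 =>
    obtain ⟨a, ha⟩ := h1
    obtain ⟨b, hb⟩ := h2
    exact ⟨a + b, by show (a + b) ^ p = _ + _; rw [add_pow_char, ha, hb]⟩
  | mul _ _ _ _ h1 h2 =>
    obtain ⟨a, ha⟩ := h1
    obtain ⟨b, hb⟩ := h2
    exact ⟨a * b, by show (a * b) ^ p = _ * _; rw [mul_pow, ha, hb]⟩

omit [IsReduced B] in
theorem pow_eq_of_mk_eq {E : Type u} [CommRing E] (hpE : (p : E) = 0) {R : Ideal E} (hR : R ^ p = ⊥) {e f : E}
    (h : Ideal.Quotient.mk R e = Ideal.Quotient.mk R f) : e ^ p = f ^ p := by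
  rcases subsingleton_or_nontrivial E with hE | hE
  · exact Subsingleton.elim _ _
  haveI : CharP E p := (CharP.charP_iff_prime_eq_zero hp.out).mpr hpE
  have hk := Ideal.pow_mem_pow (Ideal.Quotient.eq.mp h) p
  rw [hR, Ideal.mem_bot, sub_pow_char, sub_eq_zero] at hk
  exact hk

theorem existsUnique_lift_of_pow_eq_bot {ι : Type u} {x : ι → B} (hx : IsPBasis p A x) {E : Type u}
    [CommRing E] [Algebra A E] {R : Ideal E} (hR : R ^ p = ⊥) (v : B →ₐ[A] E ⧸ R) (z : ι → E)
    (hz : ∀ i, Ideal.Quotient.mk R (z i) = v (x i)) :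
    ∃! w : B →ₐ[A] E, (Ideal.Quotient.mkₐ A R).comp w = v ∧ ∀ i, w (x i) = z i := by
  have hpE : (p : E) = 0 := by rw [← map_natCast (algebraMap A E), CharP.cast_eq_zero, map_zero]
  choose r hr using exists_root p (A := A) (B := B)
  choose lf hlf using fun b : B => Ideal.Quotient.mk_surjective (v b)
  have hunr : ∀ {b b' : B}, b ^ p = b' ^ p → b = b' := fun {b b'} h => by
    rw [← sub_eq_zero]
    exact eq_zero_of_pow_eq_zero (n := p) (by rw [sub_pow_char, h, sub_self])
  rcases subsingleton_or_nontrivial E with hE | hE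
  · let w0 : B →+* E :=
      { toFun := fun _ => 0
        map_one' := Subsingleton.elim _ _
        map_mul' := fun _ _ => Subsingleton.elim _ _
        map_zero' := rfl
        map_add' := fun _ _ => Subsingleton.elim _ _ }
    refine ⟨⟨w0, fun _ => Subsingleton.elim _ _⟩,
      ⟨?_, fun i => Subsingleton.elim _ _⟩, fun w _ => AlgHom.ext fun _ => Subsingleton.elim _ _⟩
    refine AlgHom.ext fun b => ?_
    haveI : Subsingleton (E ⧸ R) := Quotient.instSubsingletonQuotient _
    exact Subsingleton.elim _ _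
  haveI : CharP E p := (CharP.charP_iff_prime_eq_zero hp.out).mpr hpE
  let φ : pPowerSubalgebra p A B →+* E :=
    { toFun := fun s => lf (r s) ^ p
      map_one' := by
        rw [hunr (show r 1 ^ p = (1 : B) ^ p by rw [hr, one_pow]; rfl),
          pow_eq_of_mk_eq p hpE hR (show Ideal.Quotient.mk R (lf 1) = Ideal.Quotient.mk R 1 by rw [hlf, map_one, map_one]),
          one_pow]
      map_zero' := by
        rw [hunr (show r 0 ^ p = (0 : B) ^ p by rw [hr, zero_pow hp.out.ne_zero]; rfl),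
          pow_eq_of_mk_eq p hpE hR (show Ideal.Quotient.mk R (lf 0) = Ideal.Quotient.mk R 0 by rw [hlf, map_zero, map_zero]),
          zero_pow hp.out.ne_zero]
      map_add' := fun s t => by
        rw [hunr (show r (s + t) ^ p = (r s + r t) ^ p by rw [hr, add_pow_char, hr, hr]; rfl),
          pow_eq_of_mk_eq p hpE hR (show Ideal.Quotient.mk R (lf (r s + r t)) = Ideal.Quotient.mk R (lf (r s) + lf (r t)) by
            rw [hlf, map_add, map_add, hlf, hlf]), add_pow_char]
      map_mul' := fun s t => by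
        rw [hunr (show r (s * t) ^ p = (r s * r t) ^ p by rw [hr, mul_pow, hr, hr]; rfl),
          pow_eq_of_mk_eq p hpE hR (show Ideal.Quotient.mk R (lf (r s * r t)) = Ideal.Quotient.mk R (lf (r s) * lf (r t)) by
            rw [hlf, map_mul, map_mul, hlf, hlf]), mul_pow] }
  have hφ : ∀ (b : B) (e : E) (hb : b ^ p ∈ pPowerSubalgebra p A B), Ideal.Quotient.mk R e = v b →
      φ ⟨b ^ p, hb⟩ = e ^ p := by
    intro b e hb he
    show lf (r ⟨b ^ p, hb⟩) ^ p = _
    rw [hunr (hr ⟨b ^ p, hb⟩), pow_eq_of_mk_eq p hpE hR ((hlf b).trans he.symm)]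
  obtain ⟨w, hw1, hw2⟩ := exists_hom hx φ z (fun i => (hφ _ _ _ (hz i)).symm)
  have hwa : ∀ a : A, w (algebraMap A B a) = algebraMap A E a := fun a => by
    obtain ⟨a', rfl⟩ := (PerfectRing.bijective_frobenius (R := A) (p := p)).2 a
    simp only [map_pow]
    rw [← map_pow w]
    exact (hw1 ⟨_, pow_mem p A _⟩).trans (hφ _ _ _ (v.commutes a').symm)
  refine ⟨⟨w, hwa⟩, ⟨AlgHom.coe_ringHom_injective (hom_ext hx.2 (fun s => ?_) (fun i => ?_)), hw2⟩, ?_⟩
  · show Ideal.Quotient.mk R (w (s : B)) = v (s : B)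
    rw [hw1]
    show Ideal.Quotient.mk R (lf (r s) ^ p) = _
    rw [map_pow, hlf, ← map_pow, hr]
  · show Ideal.Quotient.mk R (w (x i)) = v (x i)
    rw [hw2, hz]
  · intro w' hw'
    refine AlgHom.coe_ringHom_injective (hom_ext hx.2 (fun s => ?_) (fun i => (hw'.2 i).trans (hw2 i).symm))
    show w' (s : B) = w (s : B)
    rw [hw1]
    show w' (s : B) = lf (r s) ^ p
    conv_lhs => rw [← hr s, map_pow]
    exact pow_eq_of_mk_eq p hpE hR ((AlgHom.congr_fun hw'.1 _).trans (hlf _).symm)

theorem existsUnique_lift {ι : Type u} {x : ι → B} (hx : IsPBasis p A x) (E : Type u) [CommRing E] [Algebra A E]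
    (R : Ideal E) (hnil : IsNilpotent R) (v : B →ₐ[A] E ⧸ R) (z : ι → E)
    (hz : ∀ i, Ideal.Quotient.mk R (z i) = v (x i)) :
    ∃! w : B →ₐ[A] E, (Ideal.Quotient.mkₐ A R).comp w = v ∧ ∀ i, w (x i) = z i := by
  obtain ⟨n, hn⟩ := hnil
  replace hn : R ^ n = ⊥ := hn
  induction n using Nat.strong_induction_on generalizing E with
  | _ n ih =>
    by_cases hnp : n ≤ p
    · exact existsUnique_lift_of_pow_eq_bot p hx
        (le_bot_iff.mp ((Ideal.pow_le_pow_right hnp).trans hn.le)) v z hz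
    push Not at hnp
    set K := R ^ (n - 1)
    have hKR : K ≤ R := Ideal.pow_le_self (by have := hp.out.two_le; omega)
    have hKp : K ^ p = ⊥ := by
      refine le_bot_iff.mp (?_ : K ^ p ≤ ⊥)
      rw [← pow_mul, ← hn]
      exact Ideal.pow_le_pow_right (le_trans (by have := hp.out.two_le; omega) (Nat.mul_le_mul_left _ hp.out.two_le))
    let R' := R.map (Ideal.Quotient.mk K)
    have hn' : R' ^ (n - 1) = ⊥ := by
      rw [← Ideal.map_pow, Ideal.map_quotient_self]
    let e := DoubleQuot.quotQuotEquivQuotOfLEₐ A hKR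
    have he : ∀ q : E, e (Ideal.Quotient.mk _ (Ideal.Quotient.mk K q)) = Ideal.Quotient.mk R q := fun q => rfl
    obtain ⟨w₁, ⟨hw₁v, hw₁x⟩, huniq⟩ := ih (n - 1) (by have := hp.out.two_le; omega) (E ⧸ K) R'
      (e.symm.toAlgHom.comp v) (fun i => Ideal.Quotient.mk K (z i)) (fun i => by
        apply e.injective
        show _ = e (e.symm (v (x i)))
        rw [AlgEquiv.apply_symm_apply, ← hz]
        exact he _) hn'
    obtain ⟨w, ⟨hww, hwx⟩, huniq2⟩ := existsUnique_lift_of_pow_eq_bot p hx hKp w₁ z (fun i => (hw₁x i).symm)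
    refine ⟨w, ⟨AlgHom.ext fun b => ?_, hwx⟩, fun w' hw' => huniq2 w' ⟨huniq _ ⟨AlgHom.ext fun b => ?_, fun i => ?_⟩, hw'.2⟩⟩
    · have h1 : Ideal.Quotient.mk K (w b) = w₁ b := AlgHom.congr_fun hww b
      have h2 := congrArg e (AlgHom.congr_fun hw₁v b)
      show Ideal.Quotient.mk R (w b) = v b
      rw [← he, h1]
      exact h2.trans (e.apply_symm_apply _)
    · apply e.injective
      show e (Ideal.Quotient.mk _ (Ideal.Quotient.mk K (w' b))) = e (e.symm (v b))
      rw [he, AlgEquiv.apply_symm_apply]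
      exact AlgHom.congr_fun hw'.1 b
    · show Ideal.Quotient.mk K (w' (x i)) = _
      rw [hw'.2]

theorem formallySmooth_of_isPBasis {ι : Type u} {x : ι → B} (hx : IsPBasis p A x) : Algebra.FormallySmooth A B := by
  refine Algebra.FormallySmooth.iff_comp_surjective.mpr fun E _ _ I hI v => ?_
  obtain ⟨w, ⟨hw, -⟩, -⟩ := existsUnique_lift p hx E I ⟨2, hI⟩ v (fun i => Function.surjInv Ideal.Quotient.mk_surjective (v (x i)))
    (fun i => Function.surjInv_eq Ideal.Quotient.mk_surjective _)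
  exact ⟨w, hw⟩

end Perfect

end Groth.Agent.PBasisLib
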