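import Mathlib
import Groth.Agent.PBasisLib.Tower

/-!
The imperfection module of `B` over `A` when `B^p ⊆ A ⊆ B` and `p`-bases exist.
-/

set_option autoImplicit false
set_option linter.style.haveILetI false

universe u

open EGA41 TensorProduct

namespace Groth.Agent.PBasisLib

variable (p : ℕ) [hp : Fact p.Prime]

theorem prod_pow_eq {A B : Type u} [CommRing A] [CommRing B] [Algebra A B] {Λ : Type u} {x : Λ → B} {x' : Λ → A}
    (hx' : ∀ i, algebraMap A B (x' i) = x i ^ p) (e : Λ →₀ ℕ) :
    algebraMap A B (pMonomial x' e) = pMonomial x e ^ p := by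
  rw [pMonomial, pMonomial, map_finsuppProd, Finsupp.prod, Finsupp.prod, ← Finset.prod_pow]
  exact Finset.prod_congr rfl fun i _ => by rw [map_pow, hx', ← pow_mul, ← pow_mul, mul_comm]

variable {R A B : Type u} [CommRing R] [CommRing A] [CommRing B] [IsReduced B] [Algebra R A] [Algebra A B]
  [Algebra R B] [IsScalarTower R A B] [CharP B p]

theorem exists_basis_imperfection
    (hinj : Function.Injective (algebraMap A B)) (hpow : ∀ b : B, b ^ p ∈ Set.range (algebraMap A B))
    (hR : Set.range (algebraMap R B) = Set.range fun b : B => b ^ p)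
    {Λ M : Type u} (x : Λ → B) (hx : IsPBasis p A x) (x' : Λ → A) (hx' : ∀ i, algebraMap A B (x' i) = x i ^ p)
    (y : M → A) (hy : IsPBasis p R y) :
    ∃ b : Module.Basis Λ B (imperfection ℤ A B),
      ∀ i, (b i : B ⊗[A] Ω[A⁄ℤ]) = (1 : B) ⊗ₜ[A] KaehlerDifferential.D ℤ A (x' i) := by
  classical
  haveI : CharP A p := (algebraMap A B).charP hinj p
  have hpowA : ∀ a : A, a ^ p ∈ Set.range (algebraMap R A) := fun a => by
    obtain ⟨r, hr⟩ : algebraMap A B a ^ p ∈ Set.range (algebraMap R B) := hR ▸ ⟨_, rfl⟩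
    exact ⟨r, hinj (by rw [← IsScalarTower.algebraMap_apply, hr, map_pow])⟩
  have hrootR : ∀ r : R, ∃ b : B, b ^ p = algebraMap R B r := fun r => by
    have : algebraMap R B r ∈ Set.range fun b : B => b ^ p := hR ▸ ⟨r, rfl⟩
    exact this
  have hpowRB : ∀ b : B, b ^ p ∈ Set.range (algebraMap R B) := fun b => hR ▸ ⟨b, rfl⟩
  -- the combined `p`-basis of `B` over `R`
  have hz : IsPBasis p R (Sum.elim (fun m => algebraMap A B (y m)) x) :=
    ⟨(isPIndependent_sumElim_iff p hinj hpowRB hy).mp hx.1, isPGenerating_sumElim p hinj hpowRB hy.2 hx.2⟩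
  -- the subrings `A^p ⊆ R₁ ⊆ A`
  let A₀ : Subring A := (frobenius A p).range
  let R₁ : Subalgebra A₀ A :=
    { __ := (algebraMap R A).range
      algebraMap_mem' := fun ⟨_, a, ha⟩ => ha ▸ hpowA a }
  have hroot : ∀ c : R₁, ∃ b : B, b ^ p = algebraMap A B (c : A) := by
    rintro ⟨_, r, rfl⟩
    rw [← IsScalarTower.algebraMap_apply]
    exact hrootR r
  have hpowA₀ : ∀ a : A, a ^ p ∈ Set.range (algebraMap A₀ A) := fun a => ⟨⟨a ^ p, a, rfl⟩, rfl⟩
  have hA₀R₁ : Function.Injective (algebraMap R₁ A) := Subtype.val_injective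
  have hxmem : ∀ i, x' i ∈ R₁ := fun i => by
    obtain ⟨r, hr⟩ := hpowRB (x i)
    exact ⟨r, hinj (by rw [← IsScalarTower.algebraMap_apply, hr, hx'])⟩
  let w : Λ → R₁ := fun i => ⟨x' i, hxmem i⟩
  have hwmon : ∀ e : Λ →₀ ℕ, ((pMonomial w e : R₁) : A) = pMonomial x' e := fun e => by
    show R₁.val (pMonomial w e) = _
    rw [pMonomial, pMonomial, map_finsuppProd]
    exact Finsupp.prod_congr fun i _ => map_pow _ _ _
  have hS₁ : ∀ c : pPowerSubalgebra p A₀ R₁, ∃ a : A, a ^ p = ((c : R₁) : A) := by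
    intro c
    obtain ⟨⟨_, a, rfl⟩, hd⟩ := (mem_pPower_iff p (pow_mem_range_left p hA₀R₁ hpowA₀) (c : R₁)).mp c.2
    exact ⟨a, congrArg Subtype.val hd⟩
  have hw : IsPBasis p A₀ w := by
    constructor
    · refine (linearIndependent_iff' (R := pPowerSubalgebra p A₀ R₁) (M := R₁) (v := fun e : {e : Λ →₀ ℕ // ∀ i, e i < p} => pMonomial w e.1)).mpr ?_
      intro s g hg e he
      choose σ hσ using hS₁
      have h0 : (∑ f ∈ s, algebraMap A B (σ (g f)) * pMonomial x f.1) ^ p = 0 := by
        rw [sum_pow_char]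
        have := congrArg (fun c : R₁ => algebraMap A B (c : A)) hg
        simp only [AddSubmonoidClass.coe_finsetSum, map_sum, ZeroMemClass.coe_zero, map_zero] at this
        refine Eq.trans (Finset.sum_congr rfl fun f _ => ?_) this
        rw [mul_pow, ← map_pow, hσ, ← prod_pow_eq p hx', ← hwmon, ← map_mul]
        rfl
      have h1 := linearIndependent_iff'.mp hx.1 s
        (fun f => (⟨_, algebraMap_mem' p A (σ (g f))⟩ : pPowerSubalgebra p A B)) (eq_zero_of_pow_eq_zero h0) e he
      have h2 : σ (g e) = 0 := hinj ((congrArg Subtype.val h1).trans (map_zero _).symm)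
      apply Subtype.ext
      apply Subtype.ext
      rw [← hσ, h2, zero_pow hp.out.ne_zero]
      rfl
    · rw [IsPGenerating, eq_top_iff]
      intro c hc
      obtain ⟨b, hb⟩ := hroot c
      have hb' : b ∈ Submodule.span (pPowerSubalgebra p A B)
          (Set.range fun e : {e : Λ →₀ ℕ // ∀ i, e i < p} => pMonomial x e.1) := hx.2 ▸ Submodule.mem_top
      obtain ⟨l, hl⟩ := (Finsupp.mem_span_range_iff_exists_finsupp).mp hb'
      choose σ hσ using fun s : pPowerSubalgebra p A B => (mem_pPower_iff p hpow (s : B)).mp s.2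
      have : c = ∑ e ∈ l.support,
          (⟨algebraMap A₀ R₁ ⟨σ (l e) ^ p, σ (l e), rfl⟩, Subalgebra.algebraMap_mem _ _⟩ : pPowerSubalgebra p A₀ R₁) •
            pMonomial w e.1 := by
        apply Subtype.ext
        apply hinj
        rw [← hb, ← hl, Finsupp.sum, sum_pow_char, AddSubmonoidClass.coe_finsetSum, map_sum]
        refine Finset.sum_congr rfl fun e _ => ?_
        rw [Subalgebra.smul_def, smul_eq_mul, Subalgebra.smul_def, smul_eq_mul, MulMemClass.coe_mul, map_mul,
          hwmon, prod_pow_eq p hx', mul_pow]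
        congr 1
        show (l e : B) ^ p = algebraMap A B (σ (l e) ^ p)
        rw [map_pow, hσ]
      rw [this]
      exact Submodule.sum_mem _ fun e _ => Submodule.smul_mem _ _ (Submodule.subset_span ⟨e, rfl⟩)
  have hS₂ : ∀ a : A, a ∈ pPowerSubalgebra p R₁ A ↔ a ∈ Set.range (algebraMap R A) := fun a => by
    rw [mem_pPower_iff p (pow_mem_range_right p hpowA₀)]
    exact ⟨fun ⟨c, hc⟩ => hc ▸ c.2, fun h => ⟨⟨a, h⟩, rfl⟩⟩
  have hy₁ : IsPBasis p R₁ y := by
    constructor
    · refine (li_iff_of_range_eq (R := pPowerSubalgebra p R A) (R' := pPowerSubalgebra p R₁ A) Subtype.val_injective Subtype.val_injective ?_).mp hy.1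
      ext a
      constructor
      · rintro ⟨s, rfl⟩
        exact ⟨⟨s, (hS₂ _).mpr ((mem_pPower_iff p hpowA _).mp s.2)⟩, rfl⟩
      · rintro ⟨s, rfl⟩
        exact ⟨⟨s, (mem_pPower_iff p hpowA _).mpr ((hS₂ _).mp s.2)⟩, rfl⟩
    · rw [← isPGenerating_iff_adjoin, eq_top_iff]
      intro a ha
      clear ha
      have ha : a ∈ Algebra.adjoin (pPowerSubalgebra p R A) (Set.range y) := by
        rw [(isPGenerating_iff_adjoin p R y).mpr hy.2]; exact Algebra.mem_top
      induction ha using Algebra.adjoin_induction with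
      | mem z hz => exact Algebra.subset_adjoin hz
      | algebraMap r =>
        exact Subalgebra.algebraMap_mem _ (⟨r, (hS₂ _).mpr ((mem_pPower_iff p hpowA _).mp r.2)⟩ : pPowerSubalgebra p R₁ A)
      | add _ _ _ _ h1 h2 => exact Subalgebra.add_mem _ h1 h2
      | mul _ _ _ _ h1 h2 => exact Subalgebra.mul_mem _ h1 h2
  have hA : IsPBasis p A₀ (Sum.elim (fun i => algebraMap R₁ A (w i)) y) :=
    ⟨(isPIndependent_sumElim_iff p hA₀R₁ hpowA₀ hw).mp hy₁.1, isPGenerating_sumElim p hA₀R₁ hpowA₀ hw.2 hy₁.2⟩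
  set gA : Λ ⊕ M → A := Sum.elim (fun i => algebraMap R₁ A (w i)) y with hgA
  have hd0 : ∀ s : pPowerSubalgebra p A₀ A, KaehlerDifferential.D ℤ A (s : A) = 0 := fun s => by
    obtain ⟨⟨_, a, rfl⟩, hd⟩ := (mem_pPower_iff p hpowA₀ (s : A)).mp s.2
    rw [← hd]
    exact derivation_pow_eq_zero (p := p) _ a
  -- spanning
  let v : Λ ⊕ M → B ⊗[A] Ω[A⁄ℤ] := fun g => (1 : B) ⊗ₜ[A] KaehlerDifferential.D ℤ A (gA g)
  have hspanΩ : Submodule.span A (Set.range fun g => KaehlerDifferential.D ℤ A (gA g)) = ⊤ := by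
    set P := Submodule.span A (Set.range fun g => KaehlerDifferential.D ℤ A (gA g))
    rw [eq_top_iff, ← KaehlerDifferential.span_range_derivation, Submodule.span_le]
    rintro _ ⟨a, rfl⟩
    have ha : a ∈ Algebra.adjoin (pPowerSubalgebra p A₀ A) (Set.range gA) := by
      rw [(isPGenerating_iff_adjoin p A₀ gA).mpr hA.2]; exact Algebra.mem_top
    induction ha using Algebra.adjoin_induction with
    | mem z hz => obtain ⟨g, rfl⟩ := hz; exact Submodule.subset_span ⟨g, rfl⟩
    | algebraMap r =>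
      show KaehlerDifferential.D ℤ A (r : A) ∈ P
      rw [hd0]; exact P.zero_mem
    | add _ _ _ _ h1 h2 => rw [map_add]; exact P.add_mem h1 h2
    | mul _ _ _ _ h1 h2 => rw [Derivation.leibniz]; exact P.add_mem (P.smul_mem _ h2) (P.smul_mem _ h1)
  have hspan : ∀ z : B ⊗[A] Ω[A⁄ℤ], z ∈ Submodule.span B (Set.range v) := by
    intro z
    induction z using TensorProduct.induction_on with
    | zero => exact zero_mem _
    | tmul b ω =>
      have hω : ω ∈ Submodule.span A (Set.range fun g => KaehlerDifferential.D ℤ A (gA g)) := hspanΩ ▸ Submodule.mem_top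
      induction hω using Submodule.span_induction generalizing b with
      | mem _ hg =>
        obtain ⟨g, rfl⟩ := hg
        rw [show b ⊗ₜ[A] KaehlerDifferential.D ℤ A (gA g) = b • v g by rw [TensorProduct.smul_tmul', smul_eq_mul, mul_one]]
        exact Submodule.smul_mem _ _ (Submodule.subset_span ⟨g, rfl⟩)
      | zero => rw [TensorProduct.tmul_zero]; exact zero_mem _
      | add _ _ _ _ h1 h2 => rw [TensorProduct.tmul_add]; exact add_mem (h1 b) (h2 b)
      | smul a _ _ h1 => rw [← TensorProduct.smul_tmul]; exact h1 _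
    | add _ _ h1 h2 => exact add_mem h1 h2
  set f := KaehlerDifferential.mapBaseChange ℤ A B
  have hfv : ∀ g, f (v g) = KaehlerDifferential.D ℤ B (algebraMap A B (gA g)) := fun g => by
    simp [f, v, KaehlerDifferential.mapBaseChange_tmul]
  have hfl : ∀ i, f (v (Sum.inl i)) = 0 := fun i => by
    rw [hfv]
    show KaehlerDifferential.D ℤ B (algebraMap A B (x' i)) = 0
    rw [hx']
    exact derivation_pow_eq_zero (p := p) _ _
  have hmem : ∀ i, v (Sum.inl i) ∈ imperfection ℤ A B := fun i => hfl i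
  let u : Λ → imperfection ℤ A B := fun i => ⟨v (Sum.inl i), hmem i⟩
  have hindep : LinearIndependent B u := by
    refine LinearIndependent.of_comp (imperfection ℤ A B).subtype (linearIndependent_iff'.mpr fun s c hc j hj => ?_)
    obtain ⟨D, ⟨-, hD⟩, -⟩ := existsUnique_derivation_int hA (L := A) (0 : pPowerSubalgebra p A₀ A →+ A)
      (by simp) (by simp) (fun g => if g = Sum.inl j then 1 else 0)
    let φ : B ⊗[A] Ω[A⁄ℤ] →ₗ[B] B :=
      LinearMap.liftBaseChange B ((Algebra.linearMap A B).comp D.liftKaehlerDifferential)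
    have := congrArg φ hc
    simp only [map_sum, map_smul, map_zero] at this
    have hφ : ∀ i, φ ((imperfection ℤ A B).subtype (u i)) = if i = j then 1 else 0 := fun i => by
      show φ ((1 : B) ⊗ₜ[A] KaehlerDifferential.D ℤ A (gA (Sum.inl i))) = _
      rw [LinearMap.liftBaseChange_tmul, one_smul, LinearMap.comp_apply, Derivation.liftKaehlerDifferential_comp_D, hD]
      by_cases hij : i = j
      · subst hij
        rw [if_pos rfl, if_pos rfl]
        exact map_one (algebraMap A B)
      · rw [if_neg hij, if_neg fun h => hij (Sum.inl_injective h)]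
        exact map_zero (algebraMap A B)
    rw [Finset.sum_congr rfl fun i _ => by rw [Function.comp_apply, hφ i], Finset.sum_eq_single_of_mem j hj
      (fun i _ hij => by rw [if_neg hij, smul_zero]), if_pos rfl, smul_eq_mul, mul_one] at this
    exact this
  refine ⟨Module.Basis.mk hindep (fun z _ => ?_), fun i => by rw [Module.Basis.mk_apply]; rfl⟩
  obtain ⟨l, hl⟩ := (Finsupp.mem_span_range_iff_exists_finsupp).mp (hspan (z : B ⊗[A] Ω[A⁄ℤ]))
  have hr : ∀ m : M, l (Sum.inr m) = 0 := by
    intro m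
    by_cases hm : Sum.inr m ∈ l.support
    swap
    · simpa using hm
    obtain ⟨D, ⟨-, hD⟩, -⟩ := existsUnique_derivation_int hz (L := B) (0 : pPowerSubalgebra p R B →+ B)
      (by simp) (by simp) (fun g => if g = Sum.inl m then 1 else 0)
    have h0 : D.liftKaehlerDifferential (f (z : B ⊗[A] Ω[A⁄ℤ])) = 0 := by
      rw [show f (z : B ⊗[A] Ω[A⁄ℤ]) = 0 from z.2, map_zero]
    rw [← hl, Finsupp.sum, map_sum, map_sum, Finset.sum_eq_single_of_mem (Sum.inr m) hm] at h0
    · rw [map_smul, map_smul, hfv, Derivation.liftKaehlerDifferential_comp_D, smul_eq_mul] at h0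
      have h1 : D (algebraMap A B (gA (Sum.inr m))) = 1 := by simpa [gA] using hD (Sum.inl m)
      rwa [h1, mul_one] at h0
    · rintro g - hg
      rw [map_smul, map_smul]
      rcases g with i | m'
      · rw [hfl, map_zero, smul_zero]
      · rw [hfv, Derivation.liftKaehlerDifferential_comp_D]
        have h1 : D (algebraMap A B (gA (Sum.inr m'))) = 0 := by
          have hne : m' ≠ m := fun h => hg (by rw [h])
          simpa [gA, hne] using hD (Sum.inl m')
        rw [h1, smul_zero]
  have : z = ∑ i ∈ l.support.toLeft, l (Sum.inl i) • u i := by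
    apply Subtype.ext
    rw [AddSubmonoidClass.coe_finsetSum, ← hl, Finsupp.sum,
      ← Finset.toLeft_disjSum_toRight (u := l.support), Finset.sum_disjSum]
    have : ∑ x ∈ l.support.toRight, l (Sum.inr x) • v (Sum.inr x) = 0 :=
      Finset.sum_eq_zero fun m _ => by rw [hr, zero_smul]
    rw [this, add_zero, Finset.toLeft_disjSum_toRight]
    rfl
  rw [this]
  exact Submodule.sum_mem _ fun i _ => Submodule.smul_mem _ _ (Submodule.subset_span ⟨i, rfl⟩)

end Groth.Agent.PBasisLib
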