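import Groth.Agent.PBasisLib.Field
import Mathlib

/-! Filtered intersections `⋂ k_i(K^p) = k₀(K^p)` and separation of differentials. -/

universe u

open EGA41 IntermediateField

namespace Groth.Agent.PBasisLib

theorem mem_iInf' {k₀ K : Type u} [Field k₀] [Field K] [Algebra k₀ K] {α : Type u} {F : α → IntermediateField k₀ K}
    {y : K} : y ∈ ⨅ i, F i ↔ ∀ i, y ∈ F i := by
  rw [← SetLike.mem_coe, IntermediateField.coe_iInf, Set.mem_iInter]
  exact Iff.rfl

variable (p : ℕ) [hp : Fact p.Prime] {k₀ : Type u} {K : Type u} [Field k₀] [Field K] [Algebra k₀ K] [CharP K p]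
  {ι : Type u} [Preorder ι] [IsDirected ι (· ≤ ·)] [Nonempty ι] (k : ι → IntermediateField k₀ K)

/-- The field `E(z)` consists of the values of polynomials of degree `< p`. -/
theorem exists_poly_of_mem_adjoin {E : IntermediateField k₀ K} (hE : ∀ y : K, y ^ p ∈ E) {z y : K}
    (hz : z ∉ E) (hy : y ∈ E ⊔ IntermediateField.adjoin k₀ {z}) :
    ∃ P : Polynomial E, P.natDegree < p ∧ Polynomial.aeval z P = y := by
  have hint : IsIntegral E z :=
    ⟨Polynomial.X ^ p - Polynomial.C ⟨z ^ p, hE z⟩, Polynomial.monic_X_pow_sub_C _ hp.out.ne_zero, by simp⟩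
  have hy' : y ∈ (IntermediateField.adjoin E {z}).restrictScalars k₀ := by
    refine (sup_le ?_ ?_ : E ⊔ IntermediateField.adjoin k₀ {z} ≤ (IntermediateField.adjoin E {z}).restrictScalars k₀) hy
    · intro e he
      exact (IntermediateField.adjoin E {z}).algebraMap_mem ⟨e, he⟩
    · rw [IntermediateField.adjoin_le_iff, Set.singleton_subset_iff]
      exact IntermediateField.mem_adjoin_simple_self E z
  have hy'' : y ∈ Algebra.adjoin E {z} := by
    rw [← IntermediateField.adjoin_simple_toSubalgebra_of_isAlgebraic hint.isAlgebraic]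
    exact hy'
  rw [Algebra.adjoin_singleton_eq_range_aeval] at hy''
  obtain ⟨P, hP⟩ := hy''
  refine ⟨P %ₘ minpoly E z, ?_, ?_⟩
  · have hne : minpoly E z ≠ 1 := (minpoly.irreducible hint).ne_one
    have := Polynomial.natDegree_modByMonic_lt P (minpoly.monic hint) hne
    rwa [minpoly_natDegree p k₀ hE hz] at this
  · rw [Polynomial.modByMonic_eq_sub_mul_div, map_sub, map_mul, minpoly.aeval, zero_mul, sub_zero]
    exact hP

omit hp [CharP K p] [Preorder ι] [IsDirected ι (· ≤ ·)] [Nonempty ι] in
theorem pow_mem_sup (T : Set K) (i : ι) (y : K) : y ^ p ∈ k i ⊔ Fp p k₀ T :=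
  le_sup_right (a := k i) (pow_mem_Fp p k₀ T y)

/-- Finitely generated extensions preserve the intersection property. -/
theorem iInf_sup_Fp (hk : Antitone k) (h : (⨅ i, k i ⊔ Fp p k₀ (∅ : Set K)) = Fp p k₀ ∅) {T : Set K}
    (hT : T.Finite) : (⨅ i, k i ⊔ Fp p k₀ T) = Fp p k₀ T := by
  classical
  induction T, hT using Set.Finite.induction_on with
  | empty => exact h
  | @insert z T _ _ ih =>
    refine le_antisymm (fun y hy => ?_) (le_iInf fun i => le_sup_right)
    have hins : Fp p k₀ (insert z T) = Fp p k₀ T ⊔ IntermediateField.adjoin k₀ {z} := by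
      rw [Fp, Fp, ← IntermediateField.gc.l_sup]
      exact congrArg (IntermediateField.adjoin k₀) (Set.ext fun w => by
        simp only [Set.mem_union, Set.mem_insert_iff, Set.sup_eq_union, Set.mem_singleton_iff]
        tauto)
    by_cases hzF : z ∈ Fp p k₀ T
    · have : Fp p k₀ (insert z T) = Fp p k₀ T := by
        rw [hins, sup_eq_left, IntermediateField.adjoin_le_iff, Set.singleton_subset_iff]
        exact hzF
      rw [this] at hy ⊢
      exact ih.le hy
    obtain ⟨i₀, hi₀⟩ : ∃ i, z ∉ k i ⊔ Fp p k₀ T := by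
      by_contra hne
      push Not at hne
      exact hzF (ih.le (by rw [mem_iInf']; exact hne))
    rw [mem_iInf'] at hy
    have hE : ∀ i, ∀ w : K, w ^ p ∈ k i ⊔ Fp p k₀ T := fun i w => pow_mem_sup p k T i w
    have key : ∀ i, i₀ ≤ i → ∃ P : Polynomial K, P.natDegree < p ∧ (∀ n, P.coeff n ∈ k i ⊔ Fp p k₀ T) ∧
        P.eval z = y := fun i hi => by
      have hzi : z ∉ k i ⊔ Fp p k₀ T := fun hh => hi₀ (sup_le_sup_right (hk hi) _ hh)
      obtain ⟨P, hP, hPy⟩ := exists_poly_of_mem_adjoin p (hE i) hzi (by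
        have := hy i
        rwa [hins, ← sup_assoc] at this)
      refine ⟨P.map (algebraMap _ K), (Polynomial.natDegree_map_le).trans_lt hP, fun n => ?_, ?_⟩
      · rw [Polynomial.coeff_map]
        exact (P.coeff n).2
      · rw [Polynomial.eval_map, ← Polynomial.aeval_def]
        exact hPy
    have uniq : ∀ P Q : Polynomial K, P.natDegree < p → Q.natDegree < p →
        (∀ n, P.coeff n ∈ k i₀ ⊔ Fp p k₀ T) → (∀ n, Q.coeff n ∈ k i₀ ⊔ Fp p k₀ T) → P.eval z = Q.eval z →
          P = Q := fun P Q hP hQ hPc hQc hPQ => by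
      set E := k i₀ ⊔ Fp p k₀ T with hEdef
      have hlift : P - Q ∈ Polynomial.lifts (algebraMap E K) := by
        rw [Polynomial.lifts_iff_coeff_lifts]
        intro n
        exact ⟨⟨(P - Q).coeff n, by rw [Polynomial.coeff_sub]; exact sub_mem (hPc n) (hQc n)⟩, rfl⟩
      obtain ⟨R, hR⟩ := (Polynomial.mem_lifts _).1 hlift
      have hdeg : R.natDegree < p := by
        rw [← Polynomial.natDegree_map (algebraMap E K), hR]
        exact (Polynomial.natDegree_sub_le P Q).trans_lt (max_lt hP hQ)
      have hR0 : R = 0 := by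
        by_contra hne
        have h1 : Polynomial.aeval z R = 0 := by
          rw [Polynomial.aeval_def, ← Polynomial.eval_map, hR, Polynomial.eval_sub, hPQ, sub_self]
        have := Polynomial.natDegree_le_of_dvd (minpoly.dvd E z h1) hne
        rw [minpoly_natDegree p k₀ (hE i₀) hi₀] at this
        omega
      rw [hR0, Polynomial.map_zero] at hR
      exact sub_eq_zero.mp hR.symm
    obtain ⟨P₀, hP₀, hP₀c, hP₀y⟩ := key i₀ le_rfl
    have hcoef : ∀ n, P₀.coeff n ∈ Fp p k₀ T := fun n => by
      refine ih.le ?_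
      rw [mem_iInf']
      intro i
      obtain ⟨j, hj1, hj2⟩ := directed_of (· ≤ ·) i i₀
      obtain ⟨Q, hQ, hQc, hQy⟩ := key j hj2
      have := uniq P₀ Q hP₀ hQ hP₀c (fun m => sup_le_sup_right (hk hj2) _ (hQc m)) (hP₀y.trans hQy.symm)
      rw [this]
      exact sup_le_sup_right (hk hj1) _ (hQc n)
    rw [← hP₀y, Polynomial.eval_eq_sum]
    refine sum_mem fun n _ => mul_mem ?_ (_root_.pow_mem ?_ n)
    · exact Fp_mono p k₀ (Set.subset_insert _ _) (hcoef n)
    · exact subset_Fp p k₀ _ (Set.mem_insert z T)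

omit hp [CharP K p] [Preorder ι] [IsDirected ι (· ≤ ·)] [Nonempty ι] in
theorem mem_Fp_base_iff (i : ι) (T : Set K) (y : K) : y ∈ Fp p (k i) T ↔ y ∈ k i ⊔ Fp p k₀ T := by
  constructor
  · intro hy
    have : Fp p (k i) T ≤ IntermediateField.extendScalars (F := k i) (E := k i ⊔ Fp p k₀ T) le_sup_left := by
      rw [Fp, IntermediateField.adjoin_le_iff]
      intro w hw
      exact le_sup_right (a := k i) (b := Fp p k₀ T) (IntermediateField.subset_adjoin _ _ hw)
    exact this hy
  · intro hy
    refine (sup_le ?_ ?_ : k i ⊔ Fp p k₀ T ≤ (Fp p (k i) T).restrictScalars k₀) hy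
    · intro e he
      exact (Fp p (k i) T).algebraMap_mem ⟨e, he⟩
    · rw [Fp, IntermediateField.adjoin_le_iff]
      exact fun w hw => IntermediateField.subset_adjoin (k i) _ hw

/-- A finite free family stays free over some `k i`. -/
theorem exists_free (hk : Antitone k) (h : (⨅ i, k i ⊔ Fp p k₀ (∅ : Set K)) = Fp p k₀ ∅) {α : Type u} [Finite α]
    {x : α → K} (hx : Free p k₀ x) : ∃ i, Free p (k i) x := by
  classical
  have : ∀ a : α, ∃ i, x a ∉ k i ⊔ Fp p k₀ (x '' {b | b ≠ a}) := fun a => by
    by_contra hne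
    push Not at hne
    exact hx a ((iInf_sup_Fp p k hk h ((Set.toFinite _).image x)).le (by rw [mem_iInf']; exact hne))
  choose i hi using this
  haveI := Fintype.ofFinite α
  obtain ⟨j, hj⟩ := Finset.exists_le (Finset.univ.image i)
  refine ⟨j, fun a hmem => hi a ?_⟩
  rw [mem_Fp_base_iff] at hmem
  exact sup_le_sup_right (hk (hj _ (Finset.mem_image_of_mem i (Finset.mem_univ a)))) _ hmem

/-- `⋂ k_i(K^p) = k₀(K^p)` iff the differentials over the `k i` separate those over `k₀`. -/
theorem iInf_eq_iff_separating (hk : Antitone k) :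
    (⨅ i, k i ⊔ Fp p k₀ (∅ : Set K)) = Fp p k₀ ∅ ↔
      ∀ ω : Ω[K⁄k₀], (∀ i, KaehlerDifferential.map k₀ (k i) K K ω = 0) → ω = 0 := by
  classical
  constructor
  · intro h ω hω
    obtain ⟨B, -, -, hB⟩ := exists_isPBasis p k₀ (Set.empty_subset (Set.univ : Set K))
      (fun t ht => absurd ht (Set.notMem_empty t))
      (eq_top_iff.mpr fun y _ => subset_Fp p k₀ _ (Set.mem_univ y))
    obtain ⟨b, hb⟩ := exists_basis_D hB
    let s := (b.repr ω).support
    have hfree : Free p k₀ (fun a : s => ((a : B) : K)) := by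
      rw [free_iff_linearIndependent_D]
      exact (linearIndependent_D hB).comp (fun a : s => (a : B)) Subtype.val_injective
    obtain ⟨i, hi⟩ := exists_free p k hk h hfree
    rw [free_iff_linearIndependent_D] at hi
    have h0 : ∑ a : s, b.repr ω (a : B) • KaehlerDifferential.D (k i) K ((a : B) : K) = 0 := by
      rw [← hω i]
      conv_rhs => rw [← b.linearCombination_repr ω, Finsupp.linearCombination_apply, Finsupp.sum]
      rw [map_sum, ← Finset.sum_coe_sort s]
      refine Finset.sum_congr rfl fun a _ => ?_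
      rw [map_smul, hb, KaehlerDifferential.map_D]
      rfl
    have hz := Fintype.linearIndependent_iff.mp hi _ h0
    refine b.repr.injective (Finsupp.ext fun a => ?_)
    rw [map_zero, Finsupp.zero_apply]
    by_cases ha : a ∈ s
    · exact hz ⟨a, ha⟩
    · exact Finsupp.notMem_support_iff.mp ha
  · intro h
    refine le_antisymm (fun y hy => ?_) (le_iInf fun i => le_sup_right)
    by_contra hy0
    have hfree : Free p k₀ (fun _ : PUnit.{u + 1} => y) := fun a hmem => hy0 (by
      refine Fp_mono p k₀ ?_ hmem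
      rintro _ ⟨b, hb, -⟩
      exact absurd (Subsingleton.elim b a) hb)
    rw [free_iff_linearIndependent_D] at hfree
    refine hfree.ne_zero PUnit.unit (h _ fun i => ?_)
    rw [KaehlerDifferential.map_D]
    have := derivation_mem_span p (k i) (KaehlerDifferential.D (k i) K) (T := (∅ : Set K))
      ((mem_Fp_base_iff p k i ∅ y).mpr ((mem_iInf'.mp hy) i))
    simpa using this

end Groth.Agent.PBasisLib
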